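import Cfsg.Agent.Lib.TwoPrime.Core
import Cfsg.Agent.Lib.PrimeDim.Main
import Cfsg.Agent.Lib.SLSmall.Geometric

/-!
Maximal subgroups of the special linear group in degree twice an odd prime: geometric or residual.
-/

set_option autoImplicit false

namespace Cfsg.Agent.TwoPrime

open scoped Matrix MatrixGroups commutatorElement
open Module PrimeDim

variable {n : ℕ} {F : Type*} [Field F] [Fintype F]

local notation "V" => Fin n → F

local notation "Mat" => Matrix (Fin n) (Fin n) F

/-- The list in degree twice an odd prime. -/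
def TwoCases (H : Subgroup (GL (Fin n) F)) (b : ℕ) : Prop :=
  (∃ W : Submodule F V, W ≠ ⊥ ∧ W ≠ ⊤ ∧ H = Cfsg.Geo.subspaceStabilizer W ⊓ Cfsg.Geo.specialLinear (Fin n) F) ∨
  (5 ≤ Fintype.card F ∧ ∃ D : Fin n → Submodule F V, Cfsg.Geo.IsMDecomposition 1 D ∧
    H = Cfsg.Geo.decompositionStabilizer D ⊓ Cfsg.Geo.specialLinear (Fin n) F) ∨
  (3 ≤ Fintype.card F ∧ ∃ D : Fin b → Submodule F V, Cfsg.Geo.IsMDecomposition 2 D ∧
    H = Cfsg.Geo.decompositionStabilizer D ⊓ Cfsg.Geo.specialLinear (Fin n) F) ∨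
  (∃ D : Fin 2 → Submodule F V, Cfsg.Geo.IsMDecomposition b D ∧
    H = Cfsg.Geo.decompositionStabilizer D ⊓ Cfsg.Geo.specialLinear (Fin n) F) ∨
  (∃ K : Subalgebra F Mat, Cfsg.Geo.IsFieldSubalgebra 2 K ∧
    H = Cfsg.Geo.subalgebraNormalizer K ⊓ Cfsg.Geo.specialLinear (Fin n) F) ∨
  (∃ K : Subalgebra F Mat, Cfsg.Geo.IsFieldSubalgebra b K ∧
    H = Cfsg.Geo.subalgebraNormalizer K ⊓ Cfsg.Geo.specialLinear (Fin n) F) ∨
  (3 ≤ Fintype.card F ∧ ∃ (e : Fin n ≃ Fin 2 × Fin b) (P : GL (Fin n) F),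
    H = Cfsg.Geo.tensorProductSubgroup 2 b e P ⊓ Cfsg.Geo.specialLinear (Fin n) F) ∨
  (∃ (F₀ : Subfield F) (r : ℕ) (P : GL (Fin n) F), r.Prime ∧ Fintype.card F = Nat.card F₀ ^ r ∧
    H = Cfsg.Geo.subfieldSubgroup F₀ P ⊓ Cfsg.Geo.specialLinear (Fin n) F) ∨
  (Odd (Fintype.card F) ∧ ∃ Q : V → F, Cfsg.Geo.IsNondegenerateQuadraticForm Q ∧
    H = Cfsg.Geo.quadSimilarityGroup Q ⊓ Cfsg.Geo.specialLinear (Fin n) F) ∨
  (∃ f : V → V → F, Cfsg.Geo.IsSymplecticForm f ∧
    H = Cfsg.Geo.similarityGroup f ⊓ Cfsg.Geo.specialLinear (Fin n) F) ∨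
  (∃ (σ : F ≃+* F) (f : V → V → F), Cfsg.Geo.IsUnitaryForm σ f ∧
    H = Cfsg.Geo.similarityGroup f ⊓ Cfsg.Geo.specialLinear (Fin n) F) ∨
  Cfsg.Geo.InLinearResidualClass H

variable {H : Subgroup (GL (Fin n) F)}

theorem eq_of_max {M : Subgroup (GL (Fin n) F)} (hH : Cfsg.Geo.IsMaximalIn (Cfsg.Geo.specialLinear (Fin n) F) H)
    (hle : H ≤ M) (hM : Cfsg.Geo.IsMaximalIn (Cfsg.Geo.specialLinear (Fin n) F) (M ⊓ Cfsg.Geo.specialLinear (Fin n) F)) :
    H = M ⊓ Cfsg.Geo.specialLinear (Fin n) F :=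
  eq_inf_of_le hH hle fun h => hM.1.ne (inf_eq_right.2 h)

theorem card_cases (F : Type*) [Field F] [Fintype F] :
    Fintype.card F = 2 ∨ Fintype.card F = 3 ∨ Fintype.card F = 4 ∨ 5 ≤ Fintype.card F := by
  have : 2 ≤ Fintype.card F := Fintype.one_lt_card
  omega

/-- Powers in a commutative group. -/
def powHom {G : Type*} [Group G] (h : ∀ a b : G, Commute a b) (l : ℕ) : G →* G where
  toFun a := a ^ l
  map_one' := one_pow l
  map_mul' a b := (h a b).mul_pow l

theorem add_self_zero (h20 : (2 : F) = 0) (M : Mat) : M + M = 0 := by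
  rw [← two_smul F M, h20, zero_smul]

theorem odd_card_of_two_ne_zero (h2 : (2 : F) ≠ 0) : Odd (Fintype.card F) := by
  refine Nat.odd_iff.2 (FiniteField.odd_card_of_char_ne_two fun e => h2 ?_)
  haveI := ringChar.charP F
  have := CharP.cast_eq_zero F (ringChar F)
  rw [e] at this
  exact_mod_cast this

section

variable {b : ℕ} (hb : b.Prime) (hb3 : 3 ≤ b) (hn2 : n = 2 * b)
  (hH : Cfsg.Geo.IsMaximalIn (Cfsg.Geo.specialLinear (Fin n) F) H)
include hb hb3 hn2 hH

theorem quad_or_symp {Q : V → F} (hQ : Cfsg.Geo.IsNondegenerateQuadraticForm Q)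
    (hle : (2 : F) ≠ 0 → H ≤ Cfsg.Geo.quadSimilarityGroup Q)
    (hle' : H ≤ Cfsg.Geo.similarityGroup (QuadraticMap.polar Q)) : TwoCases H b := by
  by_cases h2 : (2 : F) = 0
  · have hf : Cfsg.Geo.IsSymplecticForm (QuadraticMap.polar Q) := by
      refine ⟨hQ.polar_bilinear, fun v w => ?_, fun v => ?_, hQ.nondegenerate⟩
      · have h := congrArg (· * QuadraticMap.polar Q w v) h2
        simp only [zero_mul] at h
        rw [QuadraticMap.polar_comm Q v w]
        linear_combination h
      · rw [polar_self hQ, h2, zero_mul]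
    exact .inr (.inr (.inr (.inr (.inr (.inr (.inr (.inr (.inr (.inl ⟨_, hf, eq_inf_of_le hH hle'
      (sl_not_le_similarity (by omega) (IsSesq.of_bilinear hf.bilinear) hf.nondegenerate)⟩)))))))))
  · exact .inr (.inr (.inr (.inr (.inr (.inr (.inr (.inr (.inl ⟨odd_card_of_two_ne_zero h2, Q, hQ,
      eq_inf_of_le hH (hle h2) (sl_not_le_quad (by omega) hQ)⟩))))))))

theorem components_case {N : Subgroup (GL (Fin n) F)} (hs : ¬ N ≤ Cfsg.Geo.scalars (Fin n) F) {c s : ℕ}
    {D : Fin c → Submodule F V} (hD : Components H N c s D) : TwoCases H b := by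
  classical
  have hle := hD.le_stab
  have hdec := hD.decomp
  have hs0 : 0 < s := hdec.pos
  have hcs : (s = 1 ∧ c = n) ∨ (c = b ∧ s = 2) ∨ (c = 2 ∧ s = b) := by
    rcases Nat.lt_or_ge 1 s with h | h
    · rcases two_prime_factors hb (hD.mul_eq.trans hn2) (hD.two_le) h with h | h
      · exact .inr (.inr h)
      · exact .inr (.inl h)
    · left
      have : s = 1 := by omega
      subst this
      exact ⟨rfl, by simpa using hD.mul_eq⟩
  rcases hcs with ⟨rfl, rfl⟩ | ⟨rfl, rfl⟩ | ⟨rfl, rfl⟩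
  · -- lines
    have hv : ∀ i, ∃ v ∈ D i, v ≠ 0 := fun i =>
      Submodule.exists_mem_ne_zero_of_ne_bot fun e => by
        have := hdec.finrank_eq i
        rw [e, finrank_bot] at this
        omega
    choose v hvD hv0 using hv
    have hli : LinearIndependent F v := hdec.indep.linearIndependent D hvD hv0
    haveI : NeZero c := ⟨by omega⟩
    let β : Basis (Fin c) F (Fin c → F) := basisOfLinearIndependentOfCardEqFinrank hli (finrank_fintype_fun_eq_card F).symm
    have hβ : ∀ i, β i = v i := fun i => by simp [β]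
    have hline : ∀ i, ∀ u ∈ D i, ∃ a : F, u = a • β i := by
      intro i u hu
      obtain ⟨a, ha⟩ := exists_smul_eq_of_finrank_eq_one (hdec.finrank_eq i) (x := (⟨v i, hvD i⟩ : D i))
        (fun e => hv0 i (congrArg Subtype.val e)) ⟨u, hu⟩
      exact ⟨a, by rw [hβ]; exact (congrArg Subtype.val ha).symm⟩
    have hperm : ∀ g ∈ H, ∃ (π : Equiv.Perm (Fin c)) (a : Fin c → F), ∀ i, (g : Matrix (Fin c) (Fin c) F) *ᵥ β i = a i • β (π i) := by
      intro g hg
      obtain ⟨π, hπ⟩ := hle hg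
      have : ∀ i, ∃ a : F, (g : Matrix (Fin c) (Fin c) F) *ᵥ β i = a • β (π i) := fun i => by
        refine hline _ _ ?_
        rw [← hπ i]
        exact ⟨β i, by rw [hβ]; exact hvD i, by rw [Matrix.toLin'_apply]⟩
      choose a ha using this
      exact ⟨π, a, ha⟩
    rcases card_cases F with h | h | h | h
    · exact absurd (fun x hx => two_diag_scalar (b := β) (by omega) h fun i => by
        exact hline i _ (hD.inv i x hx _ (by rw [hβ]; exact hvD i))) hs
    · obtain ⟨Q, hQ, hmem⟩ := exists_quad h β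
      refine quad_or_symp hb hb3 hn2 hH hQ (fun _ g hg => ?_) fun g hg => ?_
      · obtain ⟨π, a, ha⟩ := hperm g hg
        exact hmem g π a ha
      · obtain ⟨π, a, ha⟩ := hperm g hg
        obtain ⟨k, hk⟩ := hmem g π a ha
        exact ⟨k, fun u w => by simp only [QuadraticMap.polar, ← Matrix.mulVec_add, hk]; ring⟩
    · obtain ⟨σ, f, hf, hmem⟩ := exists_unitary_four h β
      refine .inr (.inr (.inr (.inr (.inr (.inr (.inr (.inr (.inr (.inr (.inl (unitary_case (by omega) hH hf
        fun g hg => ?_)))))))))))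
      obtain ⟨π, a, ha⟩ := hperm g hg
      exact hmem g π a ha
    · exact .inr (.inl ⟨h, D, hdec, eq_of_max hH hle
        (MonomialMax.wreath_maximal hdec (by simp; omega) (fun _ => h) (fun h' => by omega))⟩)
  · -- planes
    rcases Nat.lt_or_ge (Fintype.card F) 3 with h | h
    · have h2 : Fintype.card F = 2 := by
        have : 2 ≤ Fintype.card F := Fintype.one_lt_card
        omega
      obtain ⟨c', hc'⟩ := FrameLib.exists_coords hdec
      let f : V → V → F := fun u w => ∑ i, (c' u i 0 * c' w i 1 - c' u i 1 * c' w i 0)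
      have hbil : Cfsg.Geo.IsBilinearForm f := by
        constructor <;> intros <;> simp only [f, map_add, map_smul, Pi.add_apply, Pi.smul_apply, smul_eq_mul,
          ← Finset.sum_add_distrib, Finset.mul_sum] <;> exact Finset.sum_congr rfl fun i _ => by ring
      have hndg : Cfsg.Geo.IsNondegenerateForm f := by
        intro u hu
        obtain ⟨i, l, hil⟩ : ∃ i l, c' u i l ≠ 0 := by
          by_contra hcon
          push Not at hcon
          exact hu (c'.injective (by rw [map_zero]; funext i l; exact hcon i l))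
        have key : ∀ w, f u (c'.symm (Pi.single i w)) = c' u i 0 * w 1 - c' u i 1 * w 0 ∧
            f (c'.symm (Pi.single i w)) u = w 0 * c' u i 1 - w 1 * c' u i 0 := by
          intro w
          constructor <;>
          · simp only [f, LinearEquiv.apply_symm_apply]
            rw [Finset.sum_eq_single i (fun j _ hj => by simp [Pi.single_eq_of_ne hj]) (by simp), Pi.single_eq_same]
        fin_cases l
        · exact ⟨⟨c'.symm (Pi.single i ![0, 1]), by rw [(key _).2]; simpa using hil⟩,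
            ⟨c'.symm (Pi.single i ![0, 1]), by rw [(key _).1]; simpa using hil⟩⟩
        · exact ⟨⟨c'.symm (Pi.single i ![1, 0]), by rw [(key _).2]; simpa using hil⟩,
            ⟨c'.symm (Pi.single i ![1, 0]), by rw [(key _).1]; simpa using hil⟩⟩
      have hf : Cfsg.Geo.IsSymplecticForm f :=
        ⟨hbil, fun u w => by simp only [f, ← Finset.sum_neg_distrib]; exact Finset.sum_congr rfl fun i _ => by ring,
          fun u => Finset.sum_eq_zero fun i _ => by ring, hndg⟩
      refine .inr (.inr (.inr (.inr (.inr (.inr (.inr (.inr (.inr (.inl ⟨f, hf, eq_inf_of_le hH (fun g hg => ?_)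
        (sl_not_le_similarity (by omega) (IsSesq.of_bilinear hbil) hndg)⟩)))))))))
      obtain ⟨π, hπ⟩ := hle hg
      have hmem : ∀ i w, c'.symm (Pi.single i w) ∈ D i := fun i w => by
        rw [hc']; intro j hj; rw [LinearEquiv.apply_symm_apply, Pi.single_eq_of_ne hj]
      have himg : ∀ i w j, j ≠ π i → c' ((g : Mat) *ᵥ c'.symm (Pi.single i w)) j = 0 := fun i w => by
        refine (hc' _ _).1 ?_
        rw [← hπ i]
        exact ⟨_, hmem i w, by rw [Matrix.toLin'_apply]⟩
      let A : Fin c → Matrix (Fin 2) (Fin 2) F := fun i => Matrix.of fun a l =>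
        c' ((g : Mat) *ᵥ c'.symm (Pi.single i (Pi.single l 1))) (π i) a
      have hblk : ∀ u i, c' ((g : Mat) *ᵥ u) (π i) = A i *ᵥ c' u i := by
        intro u i
        have hu : u = ∑ j, ∑ l, c' u j l • c'.symm (Pi.single j (Pi.single l 1)) := by
          apply c'.injective
          simp only [map_sum, map_smul, LinearEquiv.apply_symm_apply]
          funext j l
          simp [Finset.sum_apply, Pi.single_apply, apply_ite (fun f : Fin 2 → F => f l)]
          fin_cases l <;> simp
        conv_lhs => rw [hu]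
        simp only [Matrix.mulVec_sum, Matrix.mulVec_smul, map_sum, map_smul]
        funext a
        simp only [Finset.sum_apply, Pi.smul_apply, smul_eq_mul]
        rw [Finset.sum_eq_single i (fun j _ hj => ?_) (by simp)]
        · simp [A, Matrix.mulVec, dotProduct, mul_comm]
        · refine Finset.sum_eq_zero fun l _ => ?_
          rw [himg j _ (π i) (fun e => hj (π.injective e).symm)]
          simp
      have hdet : ∀ i, (A i).det = 1 := by
        intro i
        rcases TensorSmall.two_cases h2 (A i).det with h0 | h0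
        · exfalso
          obtain ⟨w, hw, hw'⟩ := Matrix.exists_mulVec_eq_zero_iff.2 h0
          refine hw ?_
          have h1 : (g : Mat) *ᵥ c'.symm (Pi.single i w) = 0 := by
            apply c'.injective
            rw [map_zero]
            funext j
            by_cases hj : j = π i
            · rw [hj, hblk, LinearEquiv.apply_symm_apply, Pi.single_eq_same, hw']; rfl
            · rw [himg i w j hj]; rfl
          have h3 := congrArg (fun v => c' (((g⁻¹ : GL (Fin n) F) : Mat) *ᵥ v) i) h1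
          simpa [TransvMax.inv_mulVec_mulVec] using h3
        · exact h0
      refine ⟨1, fun u w => ?_⟩
      simp only [f, Units.val_one, one_mul]
      rw [← Equiv.sum_comp π]
      refine Finset.sum_congr rfl fun i _ => ?_
      rw [hblk, hblk]
      have hd := hdet i
      rw [Matrix.det_fin_two] at hd
      simp only [Matrix.mulVec, dotProduct, Fin.sum_univ_two]
      linear_combination (c' u i 0 * c' w i 1 - c' u i 1 * c' w i 0) * hd
    · exact .inr (.inr (.inl ⟨h, D, hdec, eq_of_max hH hle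
        (MonomialMax.wreath_maximal hdec (by simp; omega) (fun h' => by omega) (fun _ => h))⟩))
  · -- two blocks
    exact .inr (.inr (.inr (.inl ⟨D, hdec, eq_of_max hH hle
      (MonomialMax.wreath_maximal hdec (by simp; omega) (fun h' => by omega) (fun h' => by omega))⟩)))

theorem field_case {r : ℕ} (hr : r = 2 ∨ r = b) {K : Subalgebra F Mat} (hK : Cfsg.Geo.IsFieldSubalgebra r K)
    (hle : H ≤ Cfsg.Geo.subalgebraNormalizer K) : TwoCases H b := by
  rcases hr with rfl | rfl
  · exact .inr (.inr (.inr (.inr (.inl ⟨K, hK, eq_of_max hH hle (ExtFieldMax.maximal_sl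
      (ExtFieldMax.normFacts Nat.prime_two (hn2 ▸ Dvd.intro b rfl) (by omega) K hK))⟩))))
  · exact .inr (.inr (.inr (.inr (.inr (.inl ⟨K, hK, eq_of_max hH hle (ExtFieldMax.maximal_sl
      (ExtFieldMax.normFacts hb (hn2 ▸ Dvd.intro_left 2 rfl) (by omega) K hK))⟩)))))

theorem tensor_case {e : Fin n ≃ Fin 2 × Fin b} {P : GL (Fin n) F}
    (hle : H ≤ Cfsg.Geo.tensorProductSubgroup 2 b e P) : TwoCases H b := by
  classical
  rcases Nat.lt_or_ge (Fintype.card F) 3 with h | h
  swap
  · exact .inr (.inr (.inr (.inr (.inr (.inr (.inl ⟨h, e, P, eq_of_max hH hle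
      (TensorMax.tensor_maximal_sl le_rfl (by omega) (fun h' => by omega) e P)⟩))))))
  have h2 : Fintype.card F = 2 := by
    have : 2 ≤ Fintype.card F := Fintype.one_lt_card
    omega
  obtain ⟨J, hJE, hJi, hJle⟩ := TensorSmall.exists_order_three e P h2
  have h20 := TensorSmall.two_eq_zero h2
  have hJ2 : (J : Mat) * J = J + 1 := by
    refine Matrix.ext_iff_mulVec.2 fun v => ?_
    obtain ⟨p, q, rfl⟩ := TensorSmall.exists_pairVec e P v
    rw [← Matrix.mulVec_mulVec, Matrix.add_mulVec, Matrix.one_mulVec, hJE, hJE, TensorSmall.pairVec_add]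
    congr 1
    · exact add_comm p q
    · funext j; simp only [Pi.add_apply]; linear_combination (-(0 : F)) * h20
  have hinv : ((J⁻¹ : GL (Fin n) F) : Mat) = J + 1 := by
    refine Units.inv_eq_of_mul_eq_one_right ?_
    rw [mul_add, hJ2, mul_one, add_right_comm, add_self_zero h20, zero_add]
  have hK : ∀ a, a ∈ Algebra.adjoin F {(J : Mat)} ↔ ∃ s t : F, a = s • (1 : Mat) + t • (J : Mat) := by
    intro a
    constructor
    · intro ha
      induction ha using Algebra.adjoin_induction with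
      | mem x hx => exact ⟨0, 1, by rw [Set.mem_singleton_iff.1 hx]; simp⟩
      | algebraMap c => exact ⟨c, 0, by simp [Algebra.algebraMap_eq_smul_one]⟩
      | add x y _ _ hx hy =>
        obtain ⟨s, t, rfl⟩ := hx
        obtain ⟨s', t', rfl⟩ := hy
        exact ⟨s + s', t + t', by simp [add_smul]; abel⟩
      | mul x y _ _ hx hy =>
        obtain ⟨s, t, rfl⟩ := hx
        obtain ⟨s', t', rfl⟩ := hy
        refine ⟨s * s' + t * t', s * t' + t * s' + t * t', ?_⟩
        simp only [add_mul, mul_add, smul_mul_assoc, mul_smul_comm, one_mul, mul_one, hJ2, smul_add, smul_smul,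
          add_smul, mul_comm t' t, mul_comm s' t, mul_comm t' s, mul_comm s' s]
        abel
    · rintro ⟨s, t, rfl⟩
      exact add_mem (Subalgebra.smul_mem _ (one_mem _) _) (Subalgebra.smul_mem _ (Algebra.self_mem_adjoin_singleton F _) _)
  have hindep : ∀ s t : F, s • (1 : Mat) + t • (J : Mat) = 0 → s = 0 ∧ t = 0 := by
    intro s t hst
    have h1 := congrArg (fun M => M *ᵥ TensorSmall.pairVec e P (Pi.single ⟨0, by omega⟩ 1) 0) hst
    simp only [Matrix.add_mulVec, Matrix.smul_mulVec, Matrix.one_mulVec, hJE, TensorSmall.pairVec_smul,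
      TensorSmall.pairVec_add, Matrix.zero_mulVec] at h1
    have h0 : TensorSmall.pairVec e P 0 0 = 0 := by simp [TensorSmall.pairVec, TensorSmall.tp_zero_right]
    rw [← h0] at h1
    obtain ⟨e1, e2⟩ := TensorSmall.pairVec_inj e P h1
    have e1' := congrFun e1 ⟨0, by omega⟩
    have e2' := congrFun e2 ⟨0, by omega⟩
    simp at e1' e2'
    exact ⟨e1', e2'⟩
  have hfield : Cfsg.Geo.IsFieldSubalgebra 2 (Algebra.adjoin F {(J : Mat)}) := by
    refine ⟨fun a ha c hc => ?_, fun a ha ha0 => ?_, ?_⟩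
    · obtain ⟨s, t, rfl⟩ := (hK a).1 ha
      obtain ⟨s', t', rfl⟩ := (hK c).1 hc
      simp only [add_mul, mul_add, smul_mul_assoc, mul_smul_comm, one_mul, mul_one, smul_add, smul_smul]
      rw [mul_comm s' s, mul_comm t' s, mul_comm s' t, mul_comm t' t]
      abel
    · obtain ⟨s, t, rfl⟩ := (hK a).1 ha
      have hm := fun s t => (hK (s • (1 : Mat) + t • (J : Mat))).2 ⟨s, t, rfl⟩
      have hJJ : (J : Mat) * ((J : Mat) + 1) = 1 := by rw [← hinv, ← Units.val_mul, mul_inv_cancel, Units.val_one]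
      rcases TensorSmall.two_cases h2 s with rfl | rfl <;> rcases TensorSmall.two_cases h2 t with rfl | rfl
      · simp at ha0
      · exact ⟨_, hm 1 1, by simpa [add_comm] using hJJ⟩
      · exact ⟨_, hm 1 0, by simp⟩
      · refine ⟨_, hm 0 1, ?_⟩
        have : ((J : Mat) + 1) * (J : Mat) = 1 := by rw [← hinv, ← Units.val_mul, inv_mul_cancel, Units.val_one]
        simpa [add_comm] using this
    · let L : F × F →ₗ[F] (Algebra.adjoin F {(J : Mat)}).toSubmodule :=
        { toFun := fun p => ⟨p.1 • (1 : Mat) + p.2 • (J : Mat), (hK _).2 ⟨_, _, rfl⟩⟩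
          map_add' := fun p q => Subtype.ext (by simp [add_smul]; abel)
          map_smul' := fun r p => Subtype.ext (by simp [smul_smul]) }
      have hL : Function.Bijective L := by
        refine ⟨?_, fun a => ?_⟩
        · rw [← LinearMap.ker_eq_bot, eq_bot_iff]
          intro p hp
          obtain ⟨e1, e2⟩ := hindep p.1 p.2 (congrArg Subtype.val (LinearMap.mem_ker.1 hp))
          exact (Submodule.mem_bot F).2 (Prod.ext e1 e2)
        · obtain ⟨s, t, ha⟩ := (hK a).1 a.2
          exact ⟨(s, t), Subtype.ext ha.symm⟩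
      have := (LinearEquiv.ofBijective L hL).finrank_eq
      rw [Module.finrank_prod, finrank_self] at this
      exact this.symm
  refine field_case hb hb3 hn2 hH (.inl rfl) hfield fun g hg a => ?_
  have key : ∀ g ∈ TensorSmall.invPairNormalizer J, ∀ a ∈ Algebra.adjoin F {(J : Mat)},
      (g : Mat) * a * ((g⁻¹ : GL (Fin n) F) : Mat) ∈ Algebra.adjoin F {(J : Mat)} := by
    intro g hg a ha
    obtain ⟨s, t, rfl⟩ := (hK a).1 ha
    have hc : (g : Mat) * J * ((g⁻¹ : GL (Fin n) F) : Mat) ∈ Algebra.adjoin F {(J : Mat)} := by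
      rcases hg with hg | hg <;> have hg' := congrArg (fun z : GL (Fin n) F => (z : Mat)) hg <;>
        simp only [Units.val_mul] at hg' <;> rw [hg']
      · exact Algebra.self_mem_adjoin_singleton F _
      · rw [hinv]; exact add_mem (Algebra.self_mem_adjoin_singleton F _) (one_mem _)
    simp only [mul_add, add_mul, mul_smul_comm, smul_mul_assoc, mul_one, ← Units.val_mul, mul_inv_cancel,
      Units.val_one]
    exact add_mem (Subalgebra.smul_mem _ (one_mem _) _) (Subalgebra.smul_mem _ (by rwa [Units.val_mul, Units.val_mul]) _)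
  refine ⟨key g (hJle (hle hg)) a, fun h => ?_⟩
  simpa [mul_assoc, ← Units.val_mul] using key g⁻¹ (inv_mem (hJle (hle hg))) _ h

theorem tensorBasis_case {N : Subgroup (GL (Fin n) F)} (hn : ∀ g ∈ H, ∀ x ∈ N, g * x * g⁻¹ ∈ N)
    {k d : ℕ} (hkd : k * d = n) (hk : 1 < k) (hd : 1 < d) (T : TensorBasis N k d) : TwoCases H b := by
  classical
  have hkd' := two_prime_factors hb (hkd.trans hn2) hk hd
  have hdp : d.Prime := by rcases hkd' with ⟨-, rfl⟩ | ⟨-, rfl⟩ <;> first | exact Nat.prime_two | exact hb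
  by_cases hc : ∀ x ∈ N, ∀ y ∈ N, x * y = y * x
  · refine field_case hb hb3 hn2 hH (r := d) (by omega) (T.field_of_comm (by omega) hdp.pos hc) fun g hg => ?_
    have key : ∀ g ∈ H, ∀ a ∈ Algebra.adjoin F (Cfsg.Geo.matrixSet N),
        (g : Mat) * a * ((g⁻¹ : GL (Fin n) F) : Mat) ∈ Algebra.adjoin F (Cfsg.Geo.matrixSet N) := by
      intro g hg a ha
      induction ha using Algebra.adjoin_induction with
      | mem a ha =>
        obtain ⟨x, hx, rfl⟩ := ha
        exact Algebra.subset_adjoin ⟨g * x * g⁻¹, hn g hg x hx, by simp [Units.val_mul]⟩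
      | algebraMap c =>
        rw [← Algebra.commutes c (g : Mat), mul_assoc, ← Units.val_mul, mul_inv_cancel, Units.val_one, mul_one]
        exact Subalgebra.algebraMap_mem _ c
      | add x y _ _ h h' => rw [mul_add, add_mul]; exact add_mem h h'
      | mul x y _ _ h h' =>
        have := mul_mem h h'
        simpa [mul_assoc, ← mul_assoc ((g⁻¹ : GL (Fin n) F) : Mat) (g : Mat), ← Units.val_mul] using this
    intro a
    refine ⟨key g hg a, fun h => ?_⟩
    simpa [mul_assoc, ← Units.val_mul] using key g⁻¹ (H.inv_mem hg) _ h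
  have hsc := T.scalarCommutant hdp hc
  rcases hkd' with ⟨rfl, rfl⟩ | ⟨rfl, rfl⟩
  · obtain ⟨e, P, hmem⟩ := exists_tensor_of_basis (by norm_num) hdp.pos T.β
    refine tensor_case hb hb3 hn2 hH (e := e) (P := P) fun g hg => ?_
    obtain ⟨B, A, hform, -⟩ := T.normalizer_form hsc (hn g hg)
    exact hmem g B A hform
  · obtain ⟨e, P, hmem⟩ := exists_tensor_of_basis (by norm_num) hb.pos (T.β.reindex (Equiv.prodComm _ _))
    refine tensor_case hb hb3 hn2 hH (e := e) (P := P) fun g hg => ?_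
    obtain ⟨B, A, hform, -⟩ := T.normalizer_form hsc (hn g hg)
    refine hmem g A B fun j l => ?_
    simp only [Basis.reindex_apply, Equiv.prodComm_symm, Equiv.prodComm_apply, Prod.swap_prod_mk, hform]
    rw [Finset.sum_comm]
    simp only [mul_comm]

/-- The classification of maximal subgroups. -/
theorem two_prime_cases : TwoCases H b := by
  classical
  haveI : NeZero n := ⟨by omega⟩
  by_cases hirr : Irr H
  swap
  · obtain ⟨W, hW0, hW1, hinv, -⟩ := exists_minimal_invariant hirr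
    refine Or.inl ⟨W, hW0, hW1, eq_inf_of_le hH (fun g hg => ?_) (sl_not_le_subspace hW0 hW1)⟩
    intro v
    refine ⟨hinv g hg v, fun h => ?_⟩
    have := hinv g⁻¹ (H.inv_mem hg) _ h
    rwa [show Cfsg.glToMat (Fin n) F g *ᵥ v = (g : Mat) *ᵥ v from rfl, TransvMax.inv_mulVec_mulVec] at this
  have hHs : ¬ H ≤ Cfsg.Geo.scalars (Fin n) F := by
    intro hle
    set u : V := Pi.single 0 1
    have hu : u ≠ 0 := fun e => by simpa [u] using congrFun e 0
    rcases hirr (Submodule.span F {u}) (fun g hg w hw => by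
      obtain ⟨c, hc⟩ := (Cfsg.Geo.mem_scalars_iff g).1 (hle hg)
      rw [hc, Matrix.smul_mulVec, Matrix.one_mulVec]
      exact Submodule.smul_mem _ _ hw) with h | h
    · exact hu (by simpa using h)
    · have h1 := finrank_span_singleton (K := F) hu
      rw [h, finrank_top, finrank_fintype_fun_eq_card, Fintype.card_fin] at h1
      omega
  -- a minimal non-scalar normal subgroup
  let Good : ℕ → Prop := fun m => ∃ N : Subgroup (GL (Fin n) F), Nat.card N = m ∧ N ≤ H ∧
    (∀ g ∈ H, ∀ x ∈ N, g * x * g⁻¹ ∈ N) ∧ ¬ N ≤ Cfsg.Geo.scalars (Fin n) F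
  have hex : ∃ m, Good m :=
    ⟨_, H, rfl, le_rfl, fun g hg x hx => H.mul_mem (H.mul_mem hg hx) (H.inv_mem hg), hHs⟩
  obtain ⟨N, hNcard, hNH, hNn, hNs⟩ := Nat.find_spec hex
  have hmin : ∀ R : Subgroup (GL (Fin n) F), R ≤ N → (∀ g ∈ H, ∀ x ∈ R, g * x * g⁻¹ ∈ R) →
      ¬ R ≤ Cfsg.Geo.scalars (Fin n) F → R = N := fun R hR hRn hRs =>
    Subgroup.eq_of_le_of_card_ge hR (by rw [hNcard]; exact Nat.find_min' hex ⟨R, rfl, hR.trans hNH, hRn, hRs⟩)
  by_cases hNirr : Irr N
  swap
  · rcases clifford hirr hNn hNs hNirr with ⟨c, s, D, hD⟩ | ⟨k, d, hkd, hd, hk, ⟨T⟩⟩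
    · exact components_case hb hb3 hn2 hH hNs hD
    · exact tensorBasis_case hb hb3 hn2 hH hNn hkd hk hd T
  by_cases hNsc : ScalarCommutant N
  swap
  · obtain ⟨r, K, hr, hK, hle⟩ := exists_field hb hn2 hNn hNirr hNsc
    exact field_case hb hb3 hn2 hH hr hK hle
  by_cases hD : ⁅N, N⁆ ≤ Cfsg.Geo.scalars (Fin n) F
  · exfalso
    have hD' : ∀ x ∈ N, ∀ y ∈ N, x * y * x⁻¹ * y⁻¹ ∈ Cfsg.Geo.scalars (Fin n) F := fun x hx y hy => by
      have := hD (Subgroup.commutator_mem_commutator hx hy)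
      rwa [commutatorElement_def] at this
    have hcard := classTwo_card hNirr hNsc hD'
    set Z := (Cfsg.Geo.scalars (Fin n) F).subgroupOf N
    haveI hZn : Z.Normal :=
      ⟨fun a ha g => Subgroup.mem_subgroupOf.2 (Cfsg.Geo.scalars_normal.conj_mem _ (Subgroup.mem_subgroupOf.1 ha) _)⟩
    have hcomm : ∀ a c : N ⧸ Z, Commute a c := by
      intro a c
      obtain ⟨x, rfl⟩ := QuotientGroup.mk'_surjective Z a
      obtain ⟨y, rfl⟩ := QuotientGroup.mk'_surjective Z c
      show QuotientGroup.mk (x * y) = (QuotientGroup.mk (y * x) : N ⧸ Z)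
      refine QuotientGroup.eq.2 (Subgroup.mem_subgroupOf.2 ?_)
      simpa [mul_assoc] using hD' _ (N.inv_mem y.2) _ (N.inv_mem x.2)
    have hpow : ∀ l : ℕ, l.Prime → l ∣ n → ∀ x ∈ N, x ^ l ∈ Cfsg.Geo.scalars (Fin n) F := by
      intro l hl hln
      let M : Subgroup (GL (Fin n) F) :=
        ((powHom hcomm l).comp (QuotientGroup.mk' Z)).ker.map N.subtype
      have hM : ∀ x, x ∈ M ↔ ∃ h : x ∈ N, x ^ l ∈ Cfsg.Geo.scalars (Fin n) F := by
        intro x
        constructor
        · rintro ⟨y, hy, rfl⟩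
          refine ⟨y.2, ?_⟩
          have h1 : (QuotientGroup.mk (y ^ l) : N ⧸ Z) = 1 := hy
          simpa using Subgroup.mem_subgroupOf.1 ((QuotientGroup.eq_one_iff _).1 h1)
        · rintro ⟨h, h'⟩
          exact ⟨⟨x, h⟩, (QuotientGroup.eq_one_iff _).2 (Subgroup.mem_subgroupOf.2 (by simpa using h')), rfl⟩
      haveI : Fact l.Prime := ⟨hl⟩
      obtain ⟨a, ha⟩ := exists_prime_orderOf_dvd_card' (G := N ⧸ Z) l
        (by rw [hcard]; exact hln.trans (dvd_pow_self n two_ne_zero))
      obtain ⟨y, rfl⟩ := QuotientGroup.mk'_surjective Z a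
      have hy : (y : GL (Fin n) F) ∈ M := (hM _).2 ⟨y.2, by
        have h1 : (QuotientGroup.mk (y ^ l) : N ⧸ Z) = 1 := orderOf_dvd_iff_pow_eq_one.1 ha.dvd
        simpa using Subgroup.mem_subgroupOf.1 ((QuotientGroup.eq_one_iff _).1 h1)⟩
      have hys : (y : GL (Fin n) F) ∉ Cfsg.Geo.scalars (Fin n) F := fun h => by
        rw [show QuotientGroup.mk' Z y = 1 from (QuotientGroup.eq_one_iff y).2 (Subgroup.mem_subgroupOf.2 h),
          orderOf_one] at ha
        exact hl.ne_one ha.symm
      have hMN := hmin M (fun x hx => ((hM x).1 hx).1) (fun g hg x hx => (hM _).2 ⟨hNn g hg x ((hM x).1 hx).1, by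
        rw [conj_pow]
        exact Subgroup.Normal.conj_mem (Cfsg.Geo.scalars_normal) _ ((hM x).1 hx).2 g⟩) fun h => hys (h hy)
      intro x hx
      exact ((hM x).1 (hMN.symm ▸ hx)).2
    refine hNs fun x hx => ?_
    have h2 := hpow 2 Nat.prime_two (hn2 ▸ Dvd.intro b rfl) x hx
    have h3 := hpow b hb (hn2 ▸ Dvd.intro_left 2 rfl) x hx
    obtain ⟨m, hm⟩ := hb.odd_of_ne_two (by omega)
    have h4 := mul_mem (inv_mem (pow_mem h2 m)) h3
    have e : ((x ^ 2) ^ m)⁻¹ * x ^ (2 * m + 1) = x := by rw [← pow_mul, pow_succ, inv_mul_cancel_left]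
    rwa [hm, e] at h4
  have hperf : ⁅N, N⁆ = N := by
    refine hmin _ (Subgroup.commutator_le.2 fun a ha c hc => ?_) (fun g hg x hx => ?_) hD
    · exact N.mul_mem (N.mul_mem (N.mul_mem ha hc) (N.inv_mem ha)) (N.inv_mem hc)
    · have h1 : g * x * g⁻¹ ∈ ⁅N, N⁆.map (MulAut.conj g).toMonoidHom := ⟨x, hx, rfl⟩
      rw [Subgroup.map_commutator] at h1
      have hle : N.map (MulAut.conj g).toMonoidHom ≤ N := by
        rintro _ ⟨t, ht, rfl⟩
        exact hNn g hg t ht
      exact Subgroup.commutator_mono hle hle h1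
  obtain ⟨hsimp, hnab, hcen⟩ := simple_mod_scalars hb hb3 hn2 hNH hperf hNn hNs hmin hNirr hNsc
  have hr3 : 3 ≤ n := by omega
  by_cases hreal : ∃ F₀ : Subfield F, F₀ ≠ ⊤ ∧ Cfsg.Geo.RealisableOver F₀ (Cfsg.Geo.matrixSet N)
  · obtain ⟨F₀, hF₀, h⟩ := hreal
    exact .inr (.inr (.inr (.inr (.inr (.inr (.inr (.inl (subfield_case hr3 hH hNsc hNn F₀ hF₀ h))))))))
  push Not at hreal
  by_cases hQ : ∃ Q : V → F, Cfsg.Geo.IsNondegenerateQuadraticForm Q ∧ Cfsg.Geo.FixesQuadForm (Cfsg.Geo.matrixSet N) Q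
  · obtain ⟨Q, hQ, hfix⟩ := hQ
    exact quad_or_symp hb hb3 hn2 hH hQ (fun h2 h hh => mem_quadSimilarity h2 hNsc hQ hfix (hNn h hh))
      fun h hh => mem_similarity hNsc (IsSesq.of_bilinear hQ.polar_bilinear) hQ.nondegenerate
        (fun s hs u v => by simp only [QuadraticMap.polar, ← Matrix.mulVec_add, hfix s hs]) (hNn h hh)
  by_cases hS : ∃ f : V → V → F, Cfsg.Geo.IsSymplecticForm f ∧ Cfsg.Geo.FixesForm (Cfsg.Geo.matrixSet N) f
  · obtain ⟨f, hf, hfix⟩ := hS
    exact .inr (.inr (.inr (.inr (.inr (.inr (.inr (.inr (.inr (.inl ⟨f, hf, eq_inf_of_le hH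
      (fun h hh => mem_similarity hNsc (IsSesq.of_bilinear hf.bilinear) hf.nondegenerate hfix (hNn h hh))
      (sl_not_le_similarity hr3 (IsSesq.of_bilinear hf.bilinear) hf.nondegenerate)⟩)))))))))
  by_cases hU : ∃ (σ : F ≃+* F) (f : V → V → F), Cfsg.Geo.IsUnitaryForm σ f ∧
      Cfsg.Geo.FixesForm (Cfsg.Geo.matrixSet N) f
  · obtain ⟨σ, f, hf, hfix⟩ := hU
    exact .inr (.inr (.inr (.inr (.inr (.inr (.inr (.inr (.inr (.inr (.inl (unitary_case hr3 hH hf fun h hh =>
      mem_similarity hNsc (IsSesq.of_unitary hf) hf.nondegenerate hfix (hNn h hh))))))))))))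
  exact .inr (.inr (.inr (.inr (.inr (.inr (.inr (.inr (.inr (.inr (.inr
    ⟨N, ⟨hNH, hNn, hperf, hsimp, hnab, hcen, absIrred_matrixSet hNirr hNsc, hreal⟩, hQ, hS, hU⟩))))))))))

end

end Cfsg.Agent.TwoPrime
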