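import Cfsg.Agent.Lib.PrimeDim.Basic

/-!
Clifford theory for a reducible normal subgroup of an irreducible matrix group: several homogeneous
components, or a basis in which the subgroup acts on one factor of a tensor decomposition.
-/

set_option autoImplicit false

namespace Cfsg.Agent.TwoPrime

open scoped Matrix MatrixGroups
open Module PrimeDim

variable {n : ℕ} {F : Type*} [Field F]

local notation "V" => Fin n → F

local notation "Mat" => Matrix (Fin n) (Fin n) F

/-- Invariant subspaces. -/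
def Inv (N : Subgroup (GL (Fin n) F)) (U : Submodule F V) : Prop :=
  ∀ x ∈ N, ∀ u ∈ U, (x : Mat) *ᵥ u ∈ U

/-- Minimal invariant subspaces. -/
structure MinInv (N : Subgroup (GL (Fin n) F)) (W : Submodule F V) : Prop where
  ne_bot : W ≠ ⊥
  inv : Inv N W
  min : ∀ U, Inv N U → U ≤ W → U = ⊥ ∨ U = W

/-- Isomorphic subspaces. -/
def NIso (N : Subgroup (GL (Fin n) F)) (Y Z : Submodule F V) : Prop :=
  ∃ T : Y ≃ₗ[F] Z, ∀ x ∈ N, ∀ y y' : Y, (y' : V) = (x : Mat) *ᵥ (y : V) → (T y' : V) = (x : Mat) *ᵥ (T y : V)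

variable {N G0 : Subgroup (GL (Fin n) F)}

theorem NIso.refl (Y : Submodule F V) : NIso N Y Y := ⟨LinearEquiv.refl F Y, fun _ _ _ _ h => h⟩

theorem NIso.symm {Y Z : Submodule F V} (hY : Inv N Y) (h : NIso N Y Z) : NIso N Z Y := by
  obtain ⟨T, hT⟩ := h
  refine ⟨T.symm, fun x hx z z' hz => ?_⟩
  obtain ⟨y, rfl⟩ := T.surjective z
  have h1 : (T ⟨_, hY x hx y y.2⟩ : V) = (x : Mat) *ᵥ (T y : V) := hT x hx y _ rfl
  have h2 : z' = T ⟨_, hY x hx y y.2⟩ := Subtype.ext (hz.trans h1.symm)
  rw [h2, LinearEquiv.symm_apply_apply, LinearEquiv.symm_apply_apply]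

theorem NIso.trans {Y Z U : Submodule F V} (h : NIso N Y Z) (h' : NIso N Z U) : NIso N Y U := by
  obtain ⟨T, hT⟩ := h
  obtain ⟨T', hT'⟩ := h'
  exact ⟨T.trans T', fun x hx y y' hy => hT' x hx (T y) (T y') (hT x hx y y' hy)⟩

/-- The restriction of a matrix to a subspace, as an isomorphism onto the image. -/
noncomputable def gmapEquiv (g : GL (Fin n) F) (W : Submodule F V) : W ≃ₗ[F] gmap g W :=
  Submodule.equivMapOfInjective _ (fun a b h => by
    simpa [TransvMax.inv_mulVec_mulVec] using congrArg (((g⁻¹ : GL (Fin n) F) : Mat) *ᵥ ·) h) W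

theorem gmapEquiv_apply (g : GL (Fin n) F) (W : Submodule F V) (w : W) :
    (gmapEquiv g W w : V) = (g : Mat) *ᵥ (w : V) := rfl

theorem NIso.gmap' (hn : ∀ g ∈ G0, ∀ x ∈ N, g * x * g⁻¹ ∈ N) {g : GL (Fin n) F} (hg : g ∈ G0)
    {Y Z : Submodule F V} (h : NIso N Y Z) : NIso N (gmap g Y) (gmap g Z) := by
  obtain ⟨T, hT⟩ := h
  refine ⟨((gmapEquiv g Y).symm.trans T).trans (gmapEquiv g Z), fun x hx u u' hu => ?_⟩
  obtain ⟨y, rfl⟩ := (gmapEquiv g Y).surjective u
  obtain ⟨y', rfl⟩ := (gmapEquiv g Y).surjective u'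
  simp only [LinearEquiv.trans_apply, LinearEquiv.symm_apply_apply, gmapEquiv_apply] at hu ⊢
  have hx' : g⁻¹ * x * g ∈ N := by simpa using hn g⁻¹ (G0.inv_mem hg) x hx
  have hy : (y' : V) = ((g⁻¹ * x * g : GL (Fin n) F) : Mat) *ᵥ (y : V) := by
    rw [Units.val_mul, Units.val_mul, ← Matrix.mulVec_mulVec, ← Matrix.mulVec_mulVec, ← hu,
      TransvMax.inv_mulVec_mulVec]
  rw [hT _ hx' y y' hy, Units.val_mul, Units.val_mul, ← Matrix.mulVec_mulVec, ← Matrix.mulVec_mulVec,
    TransvMax.mulVec_inv_mulVec]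

/-- A matrix commuting with the group gives isomorphic subspaces. -/
theorem niso_of_comm {y : GL (Fin n) F} (hy : ∀ x ∈ N, y * x = x * y) (Y : Submodule F V) :
    NIso N Y (gmap y Y) :=
  ⟨gmapEquiv y Y, fun x hx u u' hu => by
    rw [gmapEquiv_apply, gmapEquiv_apply, hu, Matrix.mulVec_mulVec, Matrix.mulVec_mulVec, ← Units.val_mul,
      ← Units.val_mul, hy x hx]⟩

theorem MinInv.gmap' (hn : ∀ g ∈ G0, ∀ x ∈ N, g * x * g⁻¹ ∈ N) {g : GL (Fin n) F} (hg : g ∈ G0)
    {W : Submodule F V} (h : MinInv N W) : MinInv N (gmap g W) := by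
  have htr : ∀ g ∈ G0, ∀ U, Inv N U → Inv N (gmap g U) := by
    intro g hg U hU x hx u hu
    rw [mem_gmap] at hu ⊢
    have h1 := hU _ (by simpa using hn g⁻¹ (G0.inv_mem hg) x hx : g⁻¹ * x * g ∈ N) _ hu
    rwa [Units.val_mul, Units.val_mul, ← Matrix.mulVec_mulVec, ← Matrix.mulVec_mulVec,
      TransvMax.mulVec_inv_mulVec] at h1
  have hcancel : ∀ (g : GL (Fin n) F) U, gmap g (gmap g⁻¹ U) = U := by
    intro g U
    ext v
    rw [mem_gmap, mem_gmap, inv_inv, TransvMax.mulVec_inv_mulVec]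
  refine ⟨fun e => h.ne_bot (eq_bot_iff.2 fun w hw => ?_), htr g hg W h.inv, fun U hU hle => ?_⟩
  · have h1 : (g : Mat) *ᵥ w ∈ gmap g W := by rw [mem_gmap, TransvMax.inv_mulVec_mulVec]; exact hw
    rw [e, Submodule.mem_bot] at h1
    rw [Submodule.mem_bot, ← TransvMax.inv_mulVec_mulVec g w, h1, Matrix.mulVec_zero]
  · have hle' : gmap g⁻¹ U ≤ W := fun v hv => by
      rw [mem_gmap, inv_inv] at hv
      have h1 := mem_gmap.1 (hle hv)
      rwa [TransvMax.inv_mulVec_mulVec] at h1
    rcases h.min _ (htr _ (G0.inv_mem hg) U hU) hle' with e | e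
    · left
      rw [← hcancel g U, e, PrimeDim.gmap, Submodule.map_bot]
    · right
      rw [← e, hcancel]

theorem inv_gmap_of_le {g : GL (Fin n) F} {A B : Submodule F V} (h : gmap g A ≤ B) {v : V} (hv : v ∈ A) :
    (g : Mat) *ᵥ v ∈ B := h (by rw [mem_gmap, TransvMax.inv_mulVec_mulVec]; exact hv)

/-- A minimal subspace with a non-zero equivariant map into another one is isomorphic to it. -/
theorem niso_of_map {Y Z : Submodule F V} (hY : MinInv N Y) (hZ : MinInv N Z) (T : Y →ₗ[F] Z) (hT0 : T ≠ 0)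
    (hT : ∀ x ∈ N, ∀ y y' : Y, (y' : V) = (x : Mat) *ᵥ (y : V) → (T y' : V) = (x : Mat) *ᵥ (T y : V)) :
    NIso N Y Z := by
  have hker : (LinearMap.ker T).map Y.subtype = ⊥ := by
    refine (hY.min _ ?_ (Submodule.map_subtype_le _ _)).resolve_right fun e => hT0 ?_
    · rintro x hx _ ⟨y, hy, rfl⟩
      refine ⟨⟨_, hY.inv x hx y y.2⟩, ?_, rfl⟩
      have h1 := hT x hx y ⟨_, hY.inv x hx y y.2⟩ rfl
      rw [SetLike.mem_coe, LinearMap.mem_ker] at hy
      rw [hy, Submodule.coe_zero, Matrix.mulVec_zero] at h1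
      exact LinearMap.mem_ker.2 (Subtype.ext h1)
    · refine LinearMap.ext fun y => ?_
      obtain ⟨y', hy', e'⟩ := e.ge y.2
      rw [← (Subtype.ext e' : y' = y)]
      exact hy'
  have hinj : Function.Injective T :=
    LinearMap.ker_eq_bot.1 (Submodule.map_injective_of_injective Y.injective_subtype (by rw [hker, Submodule.map_bot]))
  have hran : (LinearMap.range T).map Z.subtype = Z := by
    refine (hZ.min _ ?_ (Submodule.map_subtype_le _ _)).resolve_left fun e => hT0 ?_
    · rintro x hx _ ⟨_, ⟨y, rfl⟩, rfl⟩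
      exact ⟨_, ⟨⟨_, hY.inv x hx y y.2⟩, rfl⟩, hT x hx y _ rfl⟩
    · refine LinearMap.ext fun y => Subtype.ext ?_
      have h1 : (T y : V) ∈ (LinearMap.range T).map Z.subtype := ⟨_, ⟨y, rfl⟩, rfl⟩
      rwa [e, Submodule.mem_bot] at h1
  have hsurj : Function.Surjective T := fun z => by
    obtain ⟨_, ⟨y, rfl⟩, e⟩ := hran.ge z.2
    exact ⟨y, Subtype.ext e⟩
  exact ⟨LinearEquiv.ofBijective T ⟨hinj, hsurj⟩, hT⟩

/-- Direct sum of translates of a minimal subspace. -/
theorem exists_translates [Finite F] (hG : Irr G0) (hn : ∀ g ∈ G0, ∀ x ∈ N, g * x * g⁻¹ ∈ N)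
    {W : Submodule F V} (hW : MinInv N W) :
    ∃ (m : ℕ) (X : Fin m → Submodule F V) (Φ : (∀ j, X j) ≃ₗ[F] V), (∀ j, MinInv N (X j)) ∧
      (∀ j, finrank F (X j) = finrank F W) ∧ (∀ z, Φ z = ∑ j, (z j : V)) ∧ m * finrank F W = n := by
  classical
  set d := finrank F W with hd
  have hd0 : 0 < d := by
    obtain ⟨w, hw, hw0⟩ := Submodule.exists_mem_ne_zero_of_ne_bot hW.ne_bot
    exact finrank_pos_iff.2 ⟨⟨0, ⟨w, hw⟩, fun e => hw0 (congrArg Subtype.val e).symm⟩⟩
  let Good : ℕ → Prop := fun m => ∃ X : Fin m → Submodule F V, (∀ j, ∃ g ∈ G0, X j = gmap g W) ∧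
    finrank F ↥(⨆ j, X j) = m * d
  have hbd : ∀ m, Good m → m ≤ n := by
    rintro m ⟨X, -, hX⟩
    have h1 := Submodule.finrank_le (⨆ j, X j)
    simp [hX] at h1
    exact le_trans (Nat.le_mul_of_pos_right m hd0) h1
  have h0 : Good 0 := ⟨fun j => j.elim0, fun j => j.elim0, by simp⟩
  obtain ⟨m, hm⟩ : ∃ m, m = Nat.findGreatest Good n := ⟨_, rfl⟩
  obtain ⟨X, hX, hfin⟩ : Good m := hm ▸ Nat.findGreatest_spec (Nat.zero_le n) h0
  have hmin : ∀ j, MinInv N (X j) := fun j => by
    obtain ⟨g, hg, e⟩ := hX j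
    rw [e]; exact hW.gmap' hn hg
  have hinv : Inv N (⨆ j, X j) := by
    intro x hx u hu
    induction hu using Submodule.iSup_induction' with
    | mem j u hu => exact Submodule.mem_iSup_of_mem j ((hmin j).inv x hx u hu)
    | zero => simp
    | add u v _ _ h h' => rw [Matrix.mulVec_add]; exact Submodule.add_mem _ h h'
  have htop : (⨆ j, X j) = ⊤ := by
    refine top_unique ((iSup_gmap_eq_top hG hW.ne_bot).ge.trans (iSup_le fun g => ?_))
    have hY := hW.gmap' hn g.2
    rcases hY.min ((⨆ j, X j) ⊓ gmap (g : GL (Fin n) F) W)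
        (fun x hx u hu => ⟨hinv x hx u hu.1, hY.inv x hx u hu.2⟩) inf_le_right with e | e
    · exfalso
      have h1 := Submodule.finrank_sup_add_finrank_inf_eq (⨆ j, X j) (gmap (g : GL (Fin n) F) W)
      rw [e, finrank_bot, add_zero, hfin, finrank_gmap] at h1
      have hG' : Good (m + 1) := by
        refine ⟨Fin.snoc X (gmap (g : GL (Fin n) F) W), fun j => ?_, ?_⟩
        · induction j using Fin.lastCases with
          | last => exact ⟨g, g.2, by rw [Fin.snoc_last]⟩
          | cast i => simpa [Fin.snoc_castSucc] using hX i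
        · have he : (⨆ j, (Fin.snoc X (gmap (g : GL (Fin n) F) W) : Fin (m + 1) → Submodule F V) j) =
              (⨆ j, X j) ⊔ gmap (g : GL (Fin n) F) W := by
            refine le_antisymm (iSup_le fun j => ?_) (sup_le (iSup_le fun i => ?_) ?_)
            · induction j using Fin.lastCases with
              | last => rw [Fin.snoc_last]; exact le_sup_right
              | cast i => rw [Fin.snoc_castSucc]; exact le_trans (le_iSup X i) le_sup_left
            · exact le_iSup_of_le i.castSucc (by rw [Fin.snoc_castSucc])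
            · exact le_iSup_of_le (Fin.last m) (by rw [Fin.snoc_last])
          rw [he, h1]; ring
      have h2 : m + 1 ≤ m := (Nat.le_findGreatest (hbd _ hG') hG').trans hm.ge
      omega
    · exact le_trans e.ge inf_le_left
  have hmd : m * d = n := by
    rw [← hfin, htop, finrank_top, finrank_fintype_fun_eq_card, Fintype.card_fin]
  have hXd : ∀ j, finrank F (X j) = d := fun j => by
    obtain ⟨g, -, e⟩ := hX j
    rw [e, finrank_gmap]
  let T : (∀ j, X j) →ₗ[F] V := ∑ j, (X j).subtype.comp (LinearMap.proj j)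
  have hT : ∀ z, T z = ∑ j, (z j : V) := fun z => by simp [T]
  have hsurj : Function.Surjective T := by
    intro v
    have hv : v ∈ ⨆ j, X j := htop ▸ Submodule.mem_top
    induction hv using Submodule.iSup_induction' with
    | mem j u hu =>
      refine ⟨Pi.single j ⟨u, hu⟩, ?_⟩
      rw [hT, Finset.sum_eq_single j (fun i _ hij => by rw [Pi.single_eq_of_ne hij]; rfl) (by simp),
        Pi.single_eq_same]
    | zero => exact ⟨0, map_zero T⟩
    | add u v _ _ h h' =>
      obtain ⟨a, rfl⟩ := h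
      obtain ⟨a', rfl⟩ := h'
      exact ⟨a + a', map_add T a a'⟩
  have hdim : finrank F (∀ j, X j) = finrank F V := by
    rw [finrank_pi_fintype]
    simp [hXd, hmd]
  exact ⟨m, X, LinearEquiv.ofBijective T ⟨(LinearMap.injective_iff_surjective_of_finrank_eq_finrank hdim).2 hsurj,
    hsurj⟩, hmin, hXd, hT, hmd⟩

/-- A basis in which the subgroup acts on the second index only. -/
structure TensorBasis (N : Subgroup (GL (Fin n) F)) (k d : ℕ) where
  /-- the basis -/
  β : Basis (Fin k × Fin d) F (Fin n → F)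
  /-- the action on one factor -/
  ρ : N →* GL (Fin d) F
  irr : Irr ρ.range
  act : ∀ (x : N) j l, ((x : GL (Fin n) F) : Matrix (Fin n) (Fin n) F) *ᵥ β (j, l) =
    ∑ i, (ρ x : Matrix (Fin d) (Fin d) F) i l • β (j, i)

/-- Homogeneous components, permuted by the overgroup and fixed by the centraliser. -/
structure Components (G0 N : Subgroup (GL (Fin n) F)) (c s : ℕ) (D : Fin c → Submodule F (Fin n → F)) : Prop where
  two_le : 2 ≤ c
  mul_eq : c * s = n
  decomp : Cfsg.Geo.IsMDecomposition s D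
  inv : ∀ i, Inv N (D i)
  le_stab : G0 ≤ Cfsg.Geo.decompositionStabilizer D
  comm_fix : ∀ y : GL (Fin n) F, (∀ x ∈ N, y * x = x * y) → ∀ i, ∀ v ∈ D i, (y : Matrix (Fin n) (Fin n) F) *ᵥ v ∈ D i

theorem clifford_at [Finite F] [NeZero n] (hG : Irr G0) (hn : ∀ g ∈ G0, ∀ x ∈ N, g * x * g⁻¹ ∈ N)
    (hs : ¬ N ≤ Cfsg.Geo.scalars (Fin n) F) {W : Submodule F V} (hW : MinInv N W) (hW1 : W ≠ ⊤) :
    (∃ (c s : ℕ) (D : Fin c → Submodule F V), Components G0 N c s D) ∨
      ∃ k d, k * d = n ∧ d = finrank F W ∧ 1 < d ∧ 1 < k ∧ Nonempty (TensorBasis N k d) := by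
  classical
  obtain ⟨m, X, Φ, hX, hXd, hΦ, hmd⟩ := exists_translates hG hn hW
  set d := finrank F W with hd
  have hm0 : 0 < m := by
    rcases Nat.eq_zero_or_pos m with e | e
    · rw [e, zero_mul] at hmd; exact absurd hmd.symm (NeZero.ne n)
    · exact e
  let π : ∀ j, V →ₗ[F] X j := fun j => (LinearMap.proj j).comp Φ.symm.toLinearMap
  have hsum : ∀ v, ∑ j, (π j v : V) = v := fun v => by
    rw [← hΦ (fun j => π j v)]
    exact Φ.apply_symm_apply v
  have hsingle : ∀ j (u : X j), Φ (Pi.single j u) = (u : V) := fun j u => by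
    rw [hΦ, Finset.sum_eq_single j (fun i _ hij => by rw [Pi.single_eq_of_ne hij]; rfl) (by simp), Pi.single_eq_same]
  have hπx : ∀ x ∈ N, ∀ v j, (π j ((x : Mat) *ᵥ v) : V) = (x : Mat) *ᵥ (π j v : V) := by
    intro x hx v j
    have h1 : Φ.symm ((x : Mat) *ᵥ v) = fun i => ⟨_, (hX i).inv x hx _ (π i v).2⟩ := by
      apply Φ.injective
      rw [LinearEquiv.apply_symm_apply, hΦ]
      conv_lhs => rw [← hsum v, Matrix.mulVec_sum]
    exact congrArg Subtype.val (congrFun h1 j)
  -- isomorphism classes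
  let R : Setoid (Fin m) := ⟨fun i j => NIso N (X i) (X j),
    ⟨fun i => NIso.refl _, fun h => h.symm (hX _).inv, fun h h' => h.trans h'⟩⟩
  let cl : Fin m → Quotient R := fun j => Quotient.mk R j
  let D : Quotient R → Submodule F V := fun C => ⨅ j : {j // cl j ≠ C}, LinearMap.ker (π j)
  have hmemD : ∀ {C v}, v ∈ D C ↔ ∀ j, cl j ≠ C → π j v = 0 := by
    intro C v
    simp only [D, Submodule.mem_iInf, LinearMap.mem_ker, Subtype.forall]
  have hXD : ∀ j, X j ≤ D (cl j) := by
    intro j u hu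
    rw [hmemD]
    intro i hi
    have h1 : Φ.symm u = Pi.single j ⟨u, hu⟩ := by
      rw [LinearEquiv.symm_apply_eq, hsingle]
    show Φ.symm u i = 0
    rw [h1, Pi.single_eq_of_ne (fun e => hi (by rw [e]))]
  have hYD : ∀ Y, MinInv N Y → ∀ j, NIso N Y (X j) → Y ≤ D (cl j) := by
    intro Y hY j hj v hv
    rw [hmemD]
    intro i hi
    by_contra h0
    refine hi (Quotient.sound ?_)
    show NIso N (X i) (X j)
    have hiso : NIso N Y (X i) := niso_of_map hY (hX i) ((π i).comp Y.subtype)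
      (fun e => h0 (LinearMap.congr_fun e ⟨v, hv⟩)) fun x hx y y' hy => by
        show (π _ (y' : V) : V) = (x : Mat) *ᵥ (π _ (y : V) : V)
        rw [hy, hπx x hx]
    exact (hiso.symm hY.inv).trans hj
  have hfind : ∀ Y, MinInv N Y → ∃ j, NIso N Y (X j) := by
    intro Y hY
    obtain ⟨v, hv, hv0⟩ := Submodule.exists_mem_ne_zero_of_ne_bot hY.ne_bot
    obtain ⟨j, hj⟩ : ∃ j, π j v ≠ 0 := by
      by_contra hc
      push Not at hc
      exact hv0 (by rw [← hsum v]; simp [hc])
    exact ⟨j, niso_of_map hY (hX j) ((π j).comp Y.subtype) (fun e => hj (LinearMap.congr_fun e ⟨v, hv⟩))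
      fun x hx y y' hy => by
        show (π _ (y' : V) : V) = (x : Mat) *ᵥ (π _ (y : V) : V)
        rw [hy, hπx x hx]⟩
  have hsumD : ∀ C v, v ∈ D C → v = ∑ j ∈ Finset.univ.filter (fun j => cl j = C), (π j v : V) := by
    intro C v hv
    conv_lhs => rw [← hsum v]
    refine (Finset.sum_subset (Finset.subset_univ _) fun j _ hj => ?_).symm
    rw [hmemD.1 hv j (by simpa using hj)]
    rfl
  have hDinv : ∀ C, Inv N (D C) := fun C x hx v hv => hmemD.2 fun j hj => Subtype.ext (by
    rw [hπx x hx, hmemD.1 hv j hj]; simp)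
  have hne : ∀ C, D C ≠ ⊥ := by
    intro C e
    obtain ⟨j, rfl⟩ := Quotient.exists_rep C
    exact (hX j).ne_bot (eq_bot_iff.2 (e ▸ hXD j))
  have hdisj : ∀ C C', C ≠ C' → D C ⊓ D C' = ⊥ := by
    intro C C' hCC
    refine eq_bot_iff.2 fun v hv => ?_
    rw [Submodule.mem_bot, ← hsum v]
    refine Finset.sum_eq_zero fun j _ => ?_
    by_cases hj : cl j = C
    · rw [hmemD.1 hv.2 j (hj ▸ hCC)]; rfl
    · rw [hmemD.1 hv.1 j hj]; rfl
  have hmove : ∀ g ∈ G0, ∀ C, ∃ C', gmap g (D C) ≤ D C' := by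
    intro g hg C
    obtain ⟨j, rfl⟩ := Quotient.exists_rep C
    obtain ⟨i, hi⟩ := hfind _ ((hX j).gmap' hn hg)
    refine ⟨cl i, fun v hv => ?_⟩
    rw [mem_gmap] at hv
    have hv' : v = ∑ l ∈ Finset.univ.filter (fun l => cl l = cl j),
        (g : Mat) *ᵥ (π l (((g⁻¹ : GL (Fin n) F) : Mat) *ᵥ v) : V) := by
      rw [← Matrix.mulVec_sum, ← hsumD _ _ hv, TransvMax.mulVec_inv_mulVec]
    rw [hv']
    refine Submodule.sum_mem _ fun l hl => ?_
    have hlj : NIso N (X l) (X j) := Quotient.exact (by simpa using hl)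
    refine hYD _ ((hX l).gmap' hn hg) i ((hlj.gmap' hn hg).trans hi) ?_
    rw [mem_gmap, TransvMax.inv_mulVec_mulVec]
    exact (π l _).2
  haveI : Fintype (Quotient R) := Fintype.ofFinite _
  by_cases hc : Fintype.card (Quotient R) = 1
  · -- one component
    right
    have hall : ∀ j, NIso N (X ⟨0, hm0⟩) (X j) := fun j =>
      Quotient.exact ((Fintype.card_le_one_iff.1 hc.le) (cl ⟨0, hm0⟩) (cl j))
    choose T hT using hall
    let w : Basis (Fin d) F (X ⟨0, hm0⟩) := Module.finBasisOfFinrankEq F _ (hXd _)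
    let bj : ∀ j, Basis (Fin d) F (X j) := fun j => w.map (T j)
    let β : Basis (Fin m × Fin d) F V :=
      ((Pi.basis bj).map Φ).reindex (Equiv.sigmaEquivProd (Fin m) (Fin d))
    have hβ : ∀ j l, β (j, l) = (T j (w l) : V) := by
      intro j l
      simp [β, bj, Pi.basis_apply, hsingle]
    let res : N → (X ⟨0, hm0⟩ →ₗ[F] X ⟨0, hm0⟩) := fun x =>
      (Matrix.toLin' ((x : GL (Fin n) F) : Mat)).restrict fun v hv => by
        rw [Matrix.toLin'_apply]; exact (hX _).inv x x.2 v hv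
    have hres : ∀ x u, (res x u : V) = ((x : GL (Fin n) F) : Mat) *ᵥ (u : V) := fun x u => rfl
    let ρ0 : N →* Matrix (Fin d) (Fin d) F :=
      { toFun := fun x => LinearMap.toMatrix w w (res x)
        map_one' := by
          rw [show res 1 = LinearMap.id from LinearMap.ext fun u => Subtype.ext (by rw [hres]; simp),
            LinearMap.toMatrix_id]
        map_mul' := fun x y => by
          rw [← LinearMap.toMatrix_mul]
          congr 1
          exact LinearMap.ext fun u => Subtype.ext (by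
            rw [hres, Module.End.mul_apply, hres, hres, Subgroup.coe_mul, Units.val_mul, Matrix.mulVec_mulVec]) }
    let ρ : N →* GL (Fin d) F := ρ0.toHomUnits
    have hρ : ∀ x, (ρ x : Matrix (Fin d) (Fin d) F) = LinearMap.toMatrix w w (res x) := fun x => rfl
    have hact : ∀ (x : N) j l, ((x : GL (Fin n) F) : Mat) *ᵥ β (j, l) =
        ∑ i, (ρ x : Matrix (Fin d) (Fin d) F) i l • β (j, i) := by
      intro x j l
      rw [hβ, ← hT j x x.2 (w l) (res x (w l)) (hres x _), ← w.sum_repr (res x (w l)), map_sum,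
        AddSubmonoidClass.coe_finsetSum]
      refine Finset.sum_congr rfl fun i _ => ?_
      rw [map_smul, Submodule.coe_smul, hβ, hρ, LinearMap.toMatrix_apply]
    refine ⟨m, d, hmd, rfl, ?_, ?_, ⟨⟨β, ρ, fun U hU => ?_, hact⟩⟩⟩
    · by_contra hd1
      have hd' : d = 1 := by
        have : d ≠ 0 := fun e => NeZero.ne n (by rw [← hmd, e, mul_zero])
        omega
      haveI : Subsingleton (Fin d) := by rw [hd']; infer_instance
      refine hs fun x hx => ?_
      have i0 : Fin d := ⟨0, by omega⟩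
      refine mem_scalars_of_val (Nat.pos_of_ne_zero (NeZero.ne n))
        (c := (ρ ⟨x, hx⟩ : Matrix (Fin d) (Fin d) F) i0 i0) (Matrix.toLin'.injective (β.ext fun p => ?_))
      obtain ⟨j, l⟩ := p
      rw [Matrix.toLin'_apply, Matrix.toLin'_apply, Matrix.smul_mulVec, Matrix.one_mulVec, hact ⟨x, hx⟩ j l,
        Finset.sum_eq_single i0 (fun i _ hi => absurd (Subsingleton.elim i i0) hi) (by simp)]
      rw [Subsingleton.elim l i0]
    · by_contra hm1
      have : m = 1 := by omega
      refine hW1 (Submodule.eq_top_of_finrank_eq ?_)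
      rw [this, one_mul] at hmd
      simpa using hmd
    · let U' : Submodule F V := (U.map w.equivFun.symm.toLinearMap).map (X ⟨0, hm0⟩).subtype
      have hU' : Inv N U' := by
        rintro x hx _ ⟨_, ⟨u, hu, rfl⟩, rfl⟩
        refine ⟨res ⟨x, hx⟩ (w.equivFun.symm u), ⟨_, hU _ ⟨⟨x, hx⟩, rfl⟩ u hu, ?_⟩, rfl⟩
        apply w.equivFun.injective
        simp only [LinearEquiv.coe_coe, LinearEquiv.apply_symm_apply]
        rw [hρ]
        funext i
        rw [Basis.equivFun_apply, ← LinearMap.toMatrix_mulVec_repr w w (res ⟨x, hx⟩)]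
        congr 2
        exact (w.equivFun.apply_symm_apply u).symm
      rcases (hX ⟨0, hm0⟩).min U' hU' (Submodule.map_subtype_le _ _) with e | e
      · left
        refine Submodule.map_injective_of_injective (f := w.equivFun.symm.toLinearMap) w.equivFun.symm.injective ?_
        refine Submodule.map_injective_of_injective (X ⟨0, hm0⟩).injective_subtype ?_
        rw [Submodule.map_bot, Submodule.map_bot]
        exact e
      · right
        refine top_unique fun u _ => ?_
        obtain ⟨_, ⟨u', hu', rfl⟩, e'⟩ := e.ge (w.equivFun.symm u).2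
        exact (w.equivFun.symm.injective (Subtype.ext e')) ▸ hu'
  -- several components
  left
  have heq : ∀ g ∈ G0, ∀ C, ∃ C', gmap g (D C) = D C' := by
    intro g hg C
    obtain ⟨C', hC'⟩ := hmove g hg C
    obtain ⟨C'', hC''⟩ := hmove g⁻¹ (G0.inv_mem hg) C'
    have hCC : C'' = C := by
      by_contra hne'
      refine hne C (eq_bot_iff.2 fun v hv => ?_)
      have h1 := inv_gmap_of_le hC'' (inv_gmap_of_le hC' hv)
      rw [TransvMax.inv_mulVec_mulVec] at h1
      rw [← hdisj C'' C hne']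
      exact ⟨h1, hv⟩
    exact ⟨C', le_antisymm hC' fun v hv => by rw [mem_gmap]; exact hCC ▸ inv_gmap_of_le hC'' hv⟩
  obtain ⟨C0⟩ : Nonempty (Quotient R) := ⟨cl ⟨0, hm0⟩⟩
  have hdimD : ∀ C, finrank F (D C) = finrank F (D C0) := by
    intro C
    by_contra hne'
    have hle : ∀ g : G0, gmap (g : GL (Fin n) F) (D C0) ≤ ⨆ C' : {C' // C' ≠ C}, D C' := by
      intro g
      obtain ⟨C', hC'⟩ := heq g g.2 C0
      have : C' ≠ C := fun e => hne' (by rw [← e, ← hC', finrank_gmap])
      exact hC'.le.trans (le_iSup (fun C' : {C' // C' ≠ C} => D C') ⟨C', this⟩)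
    have htop := top_unique ((iSup_gmap_eq_top hG (hne C0)).ge.trans (iSup_le hle))
    obtain ⟨v, hv, hv0⟩ := Submodule.exists_mem_ne_zero_of_ne_bot (hne C)
    refine hv0 ?_
    rw [← hsum v]
    refine Finset.sum_eq_zero fun j _ => ?_
    by_cases hj : cl j = C
    · have h1 : (⨆ C' : {C' // C' ≠ C}, D C') ≤ LinearMap.ker (π j) :=
        iSup_le fun C' u hu => LinearMap.mem_ker.2 (hmemD.1 hu j (hj ▸ C'.2.symm))
      rw [LinearMap.mem_ker.1 (h1 (htop ▸ Submodule.mem_top : v ∈ _))]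
      rfl
    · rw [hmemD.1 hv j hj]; rfl
  let ec := (Fintype.equivFin (Quotient R)).symm
  set D' : Fin (Fintype.card (Quotient R)) → Submodule F V := fun i => D (ec i) with hD'
  have hindep : iSupIndep D' := by
    intro i
    rw [disjoint_iff, eq_bot_iff]
    intro v hv
    rw [Submodule.mem_bot, ← hsum v]
    refine Finset.sum_eq_zero fun j _ => ?_
    by_cases hj : cl j = ec i
    · have h1 : (⨆ (k : _) (_ : k ≠ i), D' k) ≤ LinearMap.ker (π j) :=
        iSup₂_le fun k hk u hu => LinearMap.mem_ker.2 (hmemD.1 hu j (hj ▸ fun e => hk (ec.injective e).symm))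
      rw [LinearMap.mem_ker.1 (h1 hv.2)]; rfl
    · rw [hmemD.1 hv.1 j hj]; rfl
  have hsup : iSup D' = ⊤ := by
    refine top_unique fun v _ => ?_
    rw [← hsum v]
    refine Submodule.sum_mem _ fun j _ => Submodule.mem_iSup_of_mem (ec.symm (cl j)) ?_
    show _ ∈ D (ec (ec.symm (cl j)))
    rw [Equiv.apply_symm_apply]
    exact hXD j (π j v).2
  have h2c : 2 ≤ Fintype.card (Quotient R) := by
    have : 0 < Fintype.card (Quotient R) := Fintype.card_pos_iff.2 ⟨C0⟩
    omega
  have hint := DirectSum.isInternal_submodule_of_iSupIndep_of_iSup_eq_top hindep hsup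
  have hmul : Fintype.card (Quotient R) * finrank F (D C0) = n := by
    have h1 := finrank_eq_card_basis (hint.collectedBasis fun i => Module.finBasis F (D' i))
    simp only [finrank_fintype_fun_eq_card, Fintype.card_fin, Fintype.card_sigma] at h1
    rw [Finset.sum_congr rfl (g := fun _ => finrank F (D C0)) fun i _ => hdimD (ec i), Finset.sum_const,
      smul_eq_mul, Finset.card_univ, Fintype.card_fin] at h1
    exact h1.symm
  refine ⟨_, finrank F (D C0), D', h2c, hmul,
    ⟨h2c, Submodule.one_le_finrank_iff.2 (hne C0), fun i => hdimD _, hindep, hsup⟩, fun i => hDinv _,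
    fun g hg => ?_, fun y hy i v hv => ?_⟩
  · choose f hf using fun C => heq g hg C
    have hinj : Function.Injective f := by
      intro C C' e
      by_contra hne'
      refine hne C (eq_bot_iff.2 fun v hv => ?_)
      rw [← hdisj C C' hne']
      have h1 : (g : Mat) *ᵥ v ∈ gmap g (D C') := by
        rw [hf C', ← e, ← hf C, mem_gmap, TransvMax.inv_mulVec_mulVec]; exact hv
      rw [mem_gmap, TransvMax.inv_mulVec_mulVec] at h1
      exact ⟨hv, h1⟩
    refine ⟨ec.trans ((Equiv.ofBijective f hinj.bijective_of_finite).trans ec.symm), fun i => ?_⟩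
    show gmap g (D (ec i)) = D (ec (ec.symm (f (ec i))))
    rw [Equiv.apply_symm_apply, hf]
  · rw [hsumD _ _ hv, Matrix.mulVec_sum]
    refine Submodule.sum_mem _ fun l hl => ?_
    have hl' : cl l = ec i := by simpa using hl
    have hc' : ∀ x ∈ N, y * x * y⁻¹ = x := fun x hx => by rw [hy x hx, mul_inv_cancel_right]
    have hY : MinInv N (gmap y (X l)) := (hX l).gmap' (G0 := Subgroup.closure {y}) (fun g hg x hx => by
      have hgc : g ∈ Subgroup.centralizer (N : Set (GL (Fin n) F)) := by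
        refine (Subgroup.closure_le _).2 ?_ hg
        rintro _ rfl
        exact Subgroup.mem_centralizer_iff.2 fun x hx => (hy x hx).symm
      rw [← Subgroup.mem_centralizer_iff.1 hgc x hx, mul_inv_cancel_right]
      exact hx) (Subgroup.subset_closure rfl)
    show _ ∈ D (ec i)
    rw [← hl']
    refine hYD _ hY l ((niso_of_comm hy (X l)).symm (hX l).inv) ?_
    rw [mem_gmap, TransvMax.inv_mulVec_mulVec]
    exact (π l v).2

theorem clifford [Finite F] [NeZero n] (hG : Irr G0) (hn : ∀ g ∈ G0, ∀ x ∈ N, g * x * g⁻¹ ∈ N)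
    (hs : ¬ N ≤ Cfsg.Geo.scalars (Fin n) F) (hN : ¬ Irr N) :
    (∃ (c s : ℕ) (D : Fin c → Submodule F V), Components G0 N c s D) ∨
      ∃ k d, k * d = n ∧ 1 < d ∧ 1 < k ∧ Nonempty (TensorBasis N k d) := by
  obtain ⟨W, hW0, hW1, hWi, hWm⟩ := exists_minimal_invariant hN
  rcases clifford_at hG hn hs (W := W) ⟨hW0, hWi, hWm⟩ hW1 with h | ⟨k, d, h1, -, h2, h3, h4⟩
  · exact .inl h
  · exact .inr ⟨k, d, h1, h2, h3, h4⟩

end Cfsg.Agent.TwoPrime
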