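import Cfsg.Agent.Lib.TwoPrime.Irreducible

/-!
A perfect absolutely irreducible minimal normal subgroup in degree twice an odd prime is simple modulo scalars.
-/

set_option autoImplicit false
set_option maxHeartbeats 1000000

namespace Cfsg.Agent.TwoPrime

open scoped Matrix MatrixGroups commutatorElement
open Module PrimeDim

variable {n : ℕ} {F : Type*} [Field F]

local notation "V" => Fin n → F

local notation "Mat" => Matrix (Fin n) (Fin n) F

theorem two_prime_factors {b k d : ℕ} (hb : b.Prime) (h : k * d = 2 * b) (hk : 1 < k) (hd : 1 < d) :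
    (k = 2 ∧ d = b) ∨ (k = b ∧ d = 2) := by
  obtain ⟨y, z, hy, hz, hyz⟩ := (Nat.dvd_mul).1 (Dvd.intro d h : k ∣ 2 * b)
  rcases (Nat.dvd_prime Nat.prime_two).1 hy with rfl | rfl <;> rcases (Nat.dvd_prime hb).1 hz with rfl | rfl
  · omega
  · right; refine ⟨by omega, ?_⟩
    subst hyz
    exact Nat.eq_of_mul_eq_mul_left hb.pos (by linarith)
  · left; exact ⟨by omega, by subst hyz; omega⟩
  · exfalso
    subst hyz
    have : 2 * z * d = 2 * z * 1 := by omega
    have := Nat.eq_of_mul_eq_mul_left (by have := hb.pos; omega) this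
    omega

theorem comm_of_scalars {Q : Subgroup (GL (Fin n) F)} (hQ : ⁅Q, Q⁆ = Q) (h : ∀ x ∈ Q, ∀ y ∈ Q, x * y = y * x) :
    Q ≤ Cfsg.Geo.scalars (Fin n) F := by
  rw [← hQ, Subgroup.commutator_le]
  intro a ha b hb
  rw [show ⁅a, b⁆ = 1 by rw [commutatorElement_def, h a ha b hb]; group]
  exact one_mem _

/-- The action of a Kronecker product on the columns. -/
theorem form_col {N : Subgroup (GL (Fin n) F)} {k d : ℕ} (T : TensorBasis N k d) {t : GL (Fin n) F}
    {C : Matrix (Fin k) (Fin k) F} {A : Matrix (Fin d) (Fin d) F}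
    (hform : ∀ j l, (t : Mat) *ᵥ T.β (j, l) = ∑ i, ∑ a, (C i j * A a l) • T.β (i, a)) (v : V) (a : Fin d) :
    (fun i => T.β.repr ((t : Mat) *ᵥ v) (i, a)) = ∑ l, A a l • (C *ᵥ fun j => T.β.repr v (j, l)) := by
  classical
  funext i
  have hv : ∀ j l, T.β.repr ((t : Mat) *ᵥ T.β (j, l)) (i, a) = C i j * A a l := by
    intro j l
    rw [hform]
    simp [Finsupp.single_apply, ite_and]
  conv_lhs => rw [← T.β.sum_repr v, Matrix.mulVec_sum]
  simp only [map_sum, Matrix.mulVec_smul, map_smul, Finsupp.coe_finsetSum, Finset.sum_apply, Finsupp.smul_apply,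
    smul_eq_mul, Fintype.sum_prod_type, hv, Pi.smul_apply, Matrix.mulVec, dotProduct, Finset.mul_sum]
  rw [Finset.sum_comm]
  exact Finset.sum_congr rfl fun l _ => Finset.sum_congr rfl fun j _ => by ring

/-- The key point: a conjugate cannot centralise. -/
theorem no_commuting_conjugate [Finite F] [NeZero n] {b : ℕ} (hb : b.Prime) (hb3 : 3 ≤ b) (hn2 : n = 2 * b)
    {H N M0 : Subgroup (GL (Fin n) F)} (hNn : ∀ g ∈ H, ∀ x ∈ N, g * x * g⁻¹ ∈ N) (hN : Irr N)
    (hmin : ∀ R : Subgroup (GL (Fin n) F), R ≤ N → (∀ g ∈ H, ∀ x ∈ R, g * x * g⁻¹ ∈ R) →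
      ¬ R ≤ Cfsg.Geo.scalars (Fin n) F → R = N)
    (hM0 : M0 ≤ N) (hM0n : ∀ g ∈ N, ∀ x ∈ M0, g * x * g⁻¹ ∈ M0) (hM0s : ¬ M0 ≤ Cfsg.Geo.scalars (Fin n) F)
    (hperf : ⁅M0, M0⁆ = M0)
    (hdich : ∀ h ∈ H, (∀ x ∈ M0, h * x * h⁻¹ ∈ M0) ∨ ∀ x ∈ M0, ∀ z ∈ M0, h * x * h⁻¹ * z = z * (h * x * h⁻¹))
    {g : GL (Fin n) F} (hg : g ∈ H) (hne : ∀ x ∈ M0, ∀ z ∈ M0, g * x * g⁻¹ * z = z * (g * x * g⁻¹)) : False := by
  classical
  have hM1n : ∀ t ∈ N, ∀ x ∈ M0, ∃ x' ∈ M0, t * (g * x * g⁻¹) * t⁻¹ = g * x' * g⁻¹ := by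
    intro t ht x hx
    exact ⟨(g⁻¹ * t * g) * x * (g⁻¹ * t * g)⁻¹,
      hM0n _ (by simpa using hNn g⁻¹ (H.inv_mem hg) t ht) x hx, by group⟩
  have hncM : ¬ ∀ x ∈ M0, ∀ y ∈ M0, x * y = y * x := fun h => hM0s (comm_of_scalars hperf h)
  by_cases hI : Irr M0
  · haveI := commutant_isDomain hI
    have hfield : IsField (commutantAlg M0) := Finite.isDomain_to_isField _
    refine hncM fun x hx y hy => ?_
    have hmem : ∀ x ∈ M0, ((g * x * g⁻¹ : GL (Fin n) F) : Mat) ∈ commutantAlg M0 := fun x hx =>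
      mem_commutantAlg.2 fun z hz => by rw [← Units.val_mul, hne x hx z hz, Units.val_mul]
    have h1 : ((g * x * g⁻¹ : GL (Fin n) F) : Mat) * (g * y * g⁻¹ : GL (Fin n) F) =
        ((g * y * g⁻¹ : GL (Fin n) F) : Mat) * (g * x * g⁻¹ : GL (Fin n) F) :=
      congrArg Subtype.val (hfield.mul_comm (⟨_, hmem x hx⟩ : commutantAlg M0) ⟨_, hmem y hy⟩)
    have h2 : g * x * g⁻¹ * (g * y * g⁻¹) = g * y * g⁻¹ * (g * x * g⁻¹) := Units.ext h1
    have h3 := congrArg (fun z => g⁻¹ * z * g) h2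
    simpa [mul_assoc] using h3
  rcases clifford hN hM0n hM0s hI with ⟨c, s, D, hD⟩ | ⟨k, d, hkd, hd1, hk1, ⟨T⟩⟩
  · -- every conjugate fixes every component
    let conjM : H → Subgroup (GL (Fin n) F) := fun h => M0.map (MulAut.conj (h : GL (Fin n) F)).toMonoidHom
    set S := ⨆ h : H, conjM h with hS
    have hSN : S ≤ N := iSup_le fun h => by
      rintro _ ⟨x, hx, rfl⟩
      exact hNn h h.2 x (hM0 hx)
    have hSn : ∀ t ∈ H, ∀ x ∈ S, t * x * t⁻¹ ∈ S := by
      intro t ht x hx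
      have h1 : t * x * t⁻¹ ∈ S.map (MulAut.conj t).toMonoidHom := ⟨x, hx, rfl⟩
      rw [hS, Subgroup.map_iSup] at h1
      refine (iSup_le fun h => ?_ : _ ≤ S) h1
      refine le_trans (le_of_eq ?_) (le_iSup conjM (⟨t, ht⟩ * h))
      show Subgroup.map _ (Subgroup.map _ M0) = Subgroup.map _ M0
      rw [Subgroup.map_map]
      congr 1
      refine MonoidHom.ext fun z => ?_
      simp [mul_assoc]
    have hM0S : M0 ≤ S := le_trans (fun x hx => (⟨x, hx, by simp⟩ : x ∈ conjM 1)) (le_iSup conjM 1)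
    have hSe : S = N := hmin S hSN hSn fun h => hM0s (hM0S.trans h)
    have hfix : S ≤ ⨅ i, Cfsg.Geo.subspaceStabilizer (D i) := by
      refine iSup_le fun h => le_iInf fun i => ?_
      rintro _ ⟨x, hx, rfl⟩
      have hall : ∀ y ∈ conjM h, ∀ v ∈ D i, (y : Mat) *ᵥ v ∈ D i := by
        rintro _ ⟨y, hy, rfl⟩ v hv
        rcases hdich h h.2 with h' | h'
        · exact hD.inv i _ (h' y hy) v hv
        · exact hD.comm_fix _ (fun z hz => h' y hy z hz) i v hv
      have hy : (MulAut.conj (h : GL (Fin n) F)).toMonoidHom x ∈ conjM h := ⟨x, hx, rfl⟩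
      generalize (MulAut.conj (h : GL (Fin n) F)).toMonoidHom x = y at hy ⊢
      intro v
      refine ⟨hall y hy v, fun h' => ?_⟩
      have h2 := hall y⁻¹ ((conjM h).inv_mem hy) _ h'
      rwa [show Cfsg.glToMat (Fin n) F y *ᵥ v = (y : Mat) *ᵥ v from rfl, TransvMax.inv_mulVec_mulVec] at h2
    have hc := hD.two_le
    rcases hN (D ⟨0, by omega⟩) (fun x hx v hv => ((iInf_le (fun i => Cfsg.Geo.subspaceStabilizer (D i)) _ ).trans'
        hfix (hSe.symm ▸ hx) v).1 hv) with h | h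
    · have := hD.decomp.finrank_eq ⟨0, by omega⟩
      rw [h, finrank_bot] at this
      exact absurd this (Nat.ne_of_lt hD.decomp.pos)
    · have := hD.decomp.finrank_eq ⟨0, by omega⟩
      rw [h, finrank_top, finrank_fintype_fun_eq_card, Fintype.card_fin, ← hD.mul_eq] at this
      have := hD.decomp.pos
      nlinarith
  -- one component
  have hkd' := two_prime_factors hb (hkd.trans hn2) hk1 hd1
  have hkp : k.Prime := by rcases hkd' with ⟨rfl, -⟩ | ⟨rfl, -⟩ <;> first | exact Nat.prime_two | exact hb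
  have hdp : d.Prime := by rcases hkd' with ⟨-, rfl⟩ | ⟨-, rfl⟩ <;> first | exact Nat.prime_two | exact hb
  have hsc := T.scalarCommutant hdp hncM
  let l0 : Fin d := ⟨0, hdp.pos⟩
  let j0 : Fin k := ⟨0, hkp.pos⟩
  set M1 := M0.map (MulAut.conj g).toMonoidHom
  have hM1 : ∀ y ∈ M1, ∀ z ∈ M0, y * z = z * y := by
    rintro _ ⟨x, hx, rfl⟩ z hz
    exact hne x hx z hz
  let B : M1 → Matrix (Fin k) (Fin k) F := fun y => Matrix.of fun i j =>
    T.β.repr (((y : GL (Fin n) F) : Mat) *ᵥ T.β (j, l0)) (i, l0)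
  have hB : ∀ (y : M1) j l, ((y : GL (Fin n) F) : Mat) *ᵥ T.β (j, l) = ∑ i, B y i j • T.β (i, l) := by
    intro y j l
    obtain ⟨C, A, hform, hA⟩ := T.normalizer_form hsc (g := (y : GL (Fin n) F)) (fun x hx => by
      rw [hM1 y y.2 x hx, mul_inv_cancel_right]; exact hx)
    have hA1 : A = 1 := hA fun x hx => hM1 y y.2 x hx
    have h1 : ∀ l, ((y : GL (Fin n) F) : Mat) *ᵥ T.β (j, l) = ∑ i, C i j • T.β (i, l) := fun l => by
      rw [hform, hA1]
      simp [Matrix.one_apply]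
    have h2 : ∀ i, B y i j = C i j := fun i => by
      simp [B, h1 l0, Finsupp.single_apply]
    rw [h1]
    simp only [h2]
  have hcol : ∀ (y : M1) (v : V) l, (fun i => T.β.repr (((y : GL (Fin n) F) : Mat) *ᵥ v) (i, l)) =
      B y *ᵥ fun i => T.β.repr v (i, l) := by
    intro y v l
    funext i
    conv_lhs => rw [← T.β.sum_repr v, Matrix.mulVec_sum]
    simp [Matrix.mulVec_smul, hB, Fintype.sum_prod_type, Matrix.mulVec, dotProduct, Finsupp.single_apply, ite_and,
      mul_comm]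
  let σ0 : M1 →* Matrix (Fin k) (Fin k) F :=
    { toFun := B
      map_one' := by ext i j; simp [B, Finsupp.single_apply, Matrix.one_apply, eq_comm]
      map_mul' := fun y y' => by
        ext i j
        have h := congrFun (hcol y (((y' : GL (Fin n) F) : Mat) *ᵥ T.β (j, l0)) l0) i
        rw [Matrix.mulVec_mulVec] at h
        exact h }
  let σ : M1 →* GL (Fin k) F := σ0.toHomUnits
  have hσ : ∀ y, (σ y : Matrix (Fin k) (Fin k) F) = B y := fun y => rfl
  have hσi : Function.Injective σ := by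
    intro y y' h
    refine Subtype.ext (Units.ext (Matrix.toLin'.injective (T.β.ext fun p => ?_)))
    obtain ⟨j, l⟩ := p
    rw [Matrix.toLin'_apply, Matrix.toLin'_apply, hB, hB, ← hσ, ← hσ, h]
  -- elements of `N` normalise the image
  let gens : Set (GL (Fin k) F) := {C | ∃ t ∈ N, ∃ A : Matrix (Fin d) (Fin d) F, ∀ j l,
    (t : Mat) *ᵥ T.β (j, l) = ∑ i, ∑ a, ((C : Matrix (Fin k) (Fin k) F) i j * A a l) • T.β (i, a)}
  have hnormB : ∀ C ∈ Subgroup.closure gens, ∀ x ∈ σ.range, C * x * C⁻¹ ∈ σ.range := by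
    intro C hC
    have hle : Subgroup.closure gens ≤ Subgroup.normalizer (σ.range : Set (GL (Fin k) F)) := by
      refine (Subgroup.closure_le _).2 fun C hC => ?_
      obtain ⟨t, ht, A, hA⟩ := hC
      have h1 : ∀ x ∈ σ.range, C * x * C⁻¹ ∈ σ.range := by
        rintro _ ⟨⟨_, x, hx, rfl⟩, rfl⟩
        obtain ⟨x', hx', e⟩ := hM1n t ht x hx
        refine ⟨⟨_, x', hx', rfl⟩, eq_mul_inv_of_mul_eq (Units.ext ?_)⟩
        rw [Units.val_mul, Units.val_mul, hσ, hσ]
        ext i j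
        obtain ⟨a, l, hal⟩ : ∃ a l, A a l ≠ 0 := by
          by_contra h
          push Not at h
          have h0 := hA j0 l0
          simp [h] at h0
          exact T.β.ne_zero (j0, l0) (by
            have := congrArg (((t⁻¹ : GL (Fin n) F) : Mat) *ᵥ ·) h0
            simpa [TransvMax.inv_mulVec_mulVec] using this)
        have e1 : (g * x' * g⁻¹) * t = t * (g * x * g⁻¹) := by rw [← e]; group
        have e2 : T.β.repr ((g * x' * g⁻¹ : GL (Fin n) F).val *ᵥ ((t : Mat) *ᵥ T.β (j, l))) (i, a) =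
            T.β.repr ((t : Mat) *ᵥ ((g * x * g⁻¹ : GL (Fin n) F).val *ᵥ T.β (j, l))) (i, a) := by
          rw [Matrix.mulVec_mulVec, Matrix.mulVec_mulVec, ← Units.val_mul, ← Units.val_mul, e1]
        have e3 := congrFun (hcol ⟨_, x', hx', rfl⟩ ((t : Mat) *ᵥ T.β (j, l)) a) i
        simp only [MulEquiv.coe_toMonoidHom, MulAut.conj_apply] at e3
        rw [e3] at e2
        have e4 : (g * x * g⁻¹ : GL (Fin n) F).val *ᵥ T.β (j, l) = ∑ i, B ⟨_, x, hx, rfl⟩ i j • T.β (i, l) :=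
          hB ⟨_, x, hx, rfl⟩ j l
        rw [e4] at e2
        rw [← e4, congrFun (form_col T hA _ a) i, form_col T hA _ a] at e2
        simp only [hcol ⟨g * x * g⁻¹, x, hx, rfl⟩] at e2
        refine mul_right_cancel₀ hal ?_
        have hcb : ∀ l', (fun j' => T.β.repr (T.β (j, l)) (j', l')) = if l' = l then Pi.single j (1 : F) else 0 := by
          intro l'
          funext j'
          by_cases h : l' = l
          · simp [h, Finsupp.single_apply, Pi.single_apply, eq_comm]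
          · simp [h, Finsupp.single_apply, Ne.symm h]
        simp only [hcb] at e2
        rw [Finset.sum_eq_single l (fun l' _ h => by simp [h]) (by simp),
          Finset.sum_eq_single l (fun l' _ h => by simp [h]) (by simp)] at e2
        simp only [if_true, Matrix.mulVec_smul, Pi.smul_apply, Matrix.mulVec_mulVec, Matrix.mulVec_single_one,
          Matrix.col_apply, smul_eq_mul] at e2
        refine Eq.trans ?_ (e2.trans ?_) <;> simp [Matrix.mul_apply, Matrix.mulVec, dotProduct, Finset.mul_sum, Finset.sum_mul, mul_assoc, mul_comm, mul_left_comm]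
      refine Subgroup.mem_normalizer_iff.2 fun x => ⟨h1 x, fun hx => ?_⟩
      let f : σ.range → σ.range := fun z => ⟨C * z * C⁻¹, h1 z z.2⟩
      have hfi : Function.Injective f := fun z z' e => Subtype.ext (by
        have h : C * (z : GL (Fin k) F) * C⁻¹ = C * z' * C⁻¹ := congrArg Subtype.val e
        simpa using h)
      obtain ⟨y, hy⟩ := (Finite.injective_iff_surjective (f := f)).1 hfi ⟨_, hx⟩
      have : C * (y : GL (Fin k) F) * C⁻¹ = C * x * C⁻¹ := congrArg Subtype.val hy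
      rw [mul_left_inj, mul_right_inj] at this
      exact this ▸ y.2
    exact fun x hx => (Subgroup.mem_normalizer_iff.1 (hle hC) x).1 hx
  have hirrB : Irr (Subgroup.closure gens) := by
    intro U hU
    let U' : Submodule F V :=
      ⨅ l : Fin d, U.comap ((LinearMap.pi fun i => (Finsupp.lapply ((i, l) : Fin k × Fin d)).comp T.β.repr.toLinearMap))
    have hU' : ∀ v, v ∈ U' ↔ ∀ l, (fun i => T.β.repr v (i, l)) ∈ U := fun v => by
      simp only [U', Submodule.mem_iInf, Submodule.mem_comap]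
      rfl
    have hinv : Inv N U' := by
      intro t ht v hv
      rw [hU'] at hv ⊢
      obtain ⟨C, A, hform, -⟩ := T.normalizer_form hsc (g := t) (hM0n t ht)
      intro a
      have h1 := form_col T hform v a
      rw [h1]
      refine U.sum_mem fun l _ => U.smul_mem _ ?_
      by_cases hC : C.det = 0
      · exfalso
        obtain ⟨w, hw, hw'⟩ := Matrix.exists_mulVec_eq_zero_iff.2 hC
        refine hw ?_
        have h2 : (t : Mat) *ᵥ (∑ j, w j • T.β (j, l0)) = 0 := by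
          simp only [Matrix.mulVec_sum, Matrix.mulVec_smul, hform, Finset.smul_sum, smul_smul]
          rw [Finset.sum_comm]
          refine Finset.sum_eq_zero fun i _ => ?_
          rw [Finset.sum_comm]
          refine Finset.sum_eq_zero fun a _ => ?_
          rw [← Finset.sum_smul]
          have h3 := congrFun hw' i
          simp only [Matrix.mulVec, dotProduct, Pi.zero_apply] at h3
          rw [show (∑ j, w j * (C i j * A a l0)) = (∑ j, C i j * w j) * A a l0 by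
            rw [Finset.sum_mul]; exact Finset.sum_congr rfl fun j _ => by ring, h3, zero_mul, zero_smul]
        have h4 := congrArg (((t⁻¹ : GL (Fin n) F) : Mat) *ᵥ ·) h2
        simp only [TransvMax.inv_mulVec_mulVec, Matrix.mulVec_zero] at h4
        funext j
        have h5 := congrArg (fun v => T.β.repr v (j, l0)) h4
        simpa [Finsupp.single_apply] using h5
      · exact hU (Matrix.GeneralLinearGroup.mkOfDetNeZero C hC) (Subgroup.subset_closure ⟨t, ht, A, hform⟩) _ (hv l)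
    have hemb : ∀ (u : Fin k → F) l, (fun i => T.β.repr (∑ j, u j • T.β (j, l0)) (i, l)) =
        if l = l0 then u else 0 := by
      intro u l
      funext i
      by_cases h : l = l0 <;> simp [h, Finsupp.single_apply, Ne.symm]
    rcases hN U' hinv with h | h
    · left
      refine (Submodule.eq_bot_iff _).2 fun u hu => ?_
      have h1 : ∑ j, u j • T.β (j, l0) ∈ U' := (hU' _).2 fun l => by
        rw [hemb]; split
        · exact hu
        · exact U.zero_mem
      rw [h, Submodule.mem_bot] at h1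
      have h2 := hemb u l0
      rw [h1, if_pos rfl] at h2
      rw [← h2]
      funext i
      simp
    · right
      refine top_unique fun u _ => ?_
      have h1 := (hU' (∑ j, u j • T.β (j, l0))).1 (h ▸ Submodule.mem_top) l0
      rwa [hemb, if_pos rfl] at h1
  rcases irr_or_comm hkp hirrB hnormB with hσI | hσc
  swap
  · refine hncM fun x hx y hy => ?_
    have h1 := hσc _ ⟨⟨_, x, hx, rfl⟩, rfl⟩ _ ⟨⟨_, y, hy, rfl⟩, rfl⟩
    rw [← map_mul, ← map_mul] at h1
    have h2 : g * x * g⁻¹ * (g * y * g⁻¹) = g * y * g⁻¹ * (g * x * g⁻¹) := congrArg Subtype.val (hσi h1)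
    have h3 := congrArg (fun z => g⁻¹ * z * g) h2
    simpa [mul_assoc] using h3
  -- compare the dimensions
  let ι : (Fin d → F) →ₗ[F] V :=
    (Matrix.toLin' (g : Mat)).comp
      { toFun := fun w => ∑ l, w l • T.β (j0, l)
        map_add' := fun w w' => by simp [add_smul, Finset.sum_add_distrib]
        map_smul' := fun r w => by
          rw [RingHom.id_apply, Finset.smul_sum]
          exact Finset.sum_congr rfl fun l _ => by rw [Pi.smul_apply, smul_eq_mul, mul_smul] }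
  have hι : ∀ w, ι w = (g : Mat) *ᵥ ∑ l, w l • T.β (j0, l) := fun w => rfl
  have hιx : ∀ (x : M0) w, ((g * x * g⁻¹ : GL (Fin n) F) : Mat) *ᵥ ι w =
      ι ((T.ρ x : Matrix (Fin d) (Fin d) F) *ᵥ w) := by
    intro x w
    rw [hι, hι, Units.val_mul, Units.val_mul, ← Matrix.mulVec_mulVec, ← Matrix.mulVec_mulVec,
      TransvMax.inv_mulVec_mulVec]
    congr 1
    simp only [Matrix.mulVec_sum, Matrix.mulVec_smul, T.act, Finset.smul_sum, smul_smul]
    rw [Finset.sum_comm]
    refine Finset.sum_congr rfl fun i _ => ?_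
    rw [← Finset.sum_smul]
    congr 1
    exact Finset.sum_congr rfl fun l _ => mul_comm _ _
  obtain ⟨l, hl⟩ : ∃ l, (fun i => T.β.repr (ι (Pi.single l0 1)) (i, l)) ≠ 0 := by
    by_contra h
    push Not at h
    have h0 : ι (Pi.single l0 1) = 0 := T.β.ext_elem fun p => by simpa using congrFun (h p.2) p.1
    have h1 := congrArg (((g⁻¹ : GL (Fin n) F) : Mat) *ᵥ ·) h0
    simp [hι, TransvMax.inv_mulVec_mulVec, Pi.single_apply] at h1
    exact T.β.ne_zero _ h1
  let φ : (Fin d → F) →ₗ[F] (Fin k → F) :=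
    (LinearMap.pi fun i => (Finsupp.lapply ((i, l) : Fin k × Fin d)).comp T.β.repr.toLinearMap).comp ι
  have hφ : ∀ w, φ w = fun i => T.β.repr (ι w) (i, l) := fun w => rfl
  have hφ0 : φ (Pi.single l0 1) ≠ 0 := hl
  have hφe : ∀ (x : M0) w, B ⟨_, x, x.2, rfl⟩ *ᵥ φ w = φ ((T.ρ x : Matrix (Fin d) (Fin d) F) *ᵥ w) := by
    intro x w
    rw [hφ, hφ, ← hcol, ← hιx]
    rfl
  have hinj : Function.Injective φ := by
    rw [← LinearMap.ker_eq_bot]
    refine (T.irr _ ?_).resolve_right fun h => hφ0 (LinearMap.mem_ker.1 (h ▸ Submodule.mem_top))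
    rintro _ ⟨x, rfl⟩ w hw
    rw [LinearMap.mem_ker] at hw ⊢
    rw [← hφe, hw, Matrix.mulVec_zero]
  have hsurj : LinearMap.range φ = ⊤ := by
    refine (hσI _ ?_).resolve_left fun h => hφ0 ((Submodule.eq_bot_iff _).1 h _ ⟨_, rfl⟩)
    rintro _ ⟨⟨_, x, hx, rfl⟩, rfl⟩ _ ⟨w, rfl⟩
    exact ⟨_, (hφe ⟨x, hx⟩ w).symm⟩
  have h1 := LinearMap.finrank_range_of_inj hinj
  rw [hsurj, finrank_top, finrank_fintype_fun_eq_card, finrank_fintype_fun_eq_card, Fintype.card_fin,
    Fintype.card_fin] at h1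
  rcases hkd' with ⟨e1, e2⟩ | ⟨e1, e2⟩ <;> omega

/-- Simplicity modulo scalars. -/
theorem simple_mod_scalars [Finite F] [NeZero n] {b : ℕ} (hb : b.Prime) (hb3 : 3 ≤ b) (hn2 : n = 2 * b)
    {H P : Subgroup (GL (Fin n) F)} (hPH : P ≤ H) (hperf : ⁅P, P⁆ = P) (hPn : ∀ g ∈ H, ∀ x ∈ P, g * x * g⁻¹ ∈ P)
    (hPns : ¬ P ≤ Cfsg.Geo.scalars (Fin n) F)
    (hmin : ∀ R : Subgroup (GL (Fin n) F), R ≤ P → (∀ g ∈ H, ∀ x ∈ R, g * x * g⁻¹ ∈ R) →
      ¬ R ≤ Cfsg.Geo.scalars (Fin n) F → R = P)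
    (hirr : Irr P) (hsc : ScalarCommutant P) :
    IsSimpleGroup (P ⧸ (Cfsg.Geo.scalars (Fin n) F).subgroupOf P) ∧
      ¬ IsMulCommutative (P ⧸ (Cfsg.Geo.scalars (Fin n) F).subgroupOf P) ∧
      ∀ h ∈ H, (∀ x ∈ P, h * x * h⁻¹ * x⁻¹ ∈ Cfsg.Geo.scalars (Fin n) F) → h ∈ Cfsg.Geo.scalars (Fin n) F := by
  classical
  have hcentral : ∀ h, (∀ x ∈ P, h * x * h⁻¹ * x⁻¹ ∈ Cfsg.Geo.scalars (Fin n) F) → h ∈ Cfsg.Geo.scalars (Fin n) F :=
    fun h hx => mem_scalars_of_commutant (Nat.pos_of_ne_zero (NeZero.ne n)) hsc (commute_perfect hperf hx)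
  -- the only non-scalar subgroup normalised by `P` is `P`
  have hsimple : ∀ M : Subgroup (GL (Fin n) F), M ≤ P → (∀ g ∈ P, ∀ x ∈ M, g * x * g⁻¹ ∈ M) →
      ¬ M ≤ Cfsg.Geo.scalars (Fin n) F → M = P := by
    intro M hM hMn hMs
    haveI : Finite (GL (Fin n) F) := inferInstance
    let Good : ℕ → Prop := fun m => ∃ M0 : Subgroup (GL (Fin n) F), Nat.card M0 = m ∧ M0 ≤ M ∧
      (∀ g ∈ P, ∀ x ∈ M0, g * x * g⁻¹ ∈ M0) ∧ ¬ M0 ≤ Cfsg.Geo.scalars (Fin n) F
    have hex : ∃ m, Good m := ⟨_, M, rfl, le_rfl, hMn, hMs⟩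
    obtain ⟨M0, hcard0, hM0M, hM0n, hM0s⟩ := Nat.find_spec hex
    have hmin0 : ∀ R : Subgroup (GL (Fin n) F), R ≤ M0 → (∀ g ∈ P, ∀ x ∈ R, g * x * g⁻¹ ∈ R) →
        ¬ R ≤ Cfsg.Geo.scalars (Fin n) F → R = M0 := fun R hR hRn hRs =>
      Subgroup.eq_of_le_of_card_ge hR (by rw [hcard0]; exact Nat.find_min' hex ⟨R, rfl, hR.trans hM0M, hRn, hRs⟩)
    have hM0P : M0 ≤ P := hM0M.trans hM
    have hDn : ∀ g ∈ P, ∀ x ∈ ⁅M0, M0⁆, g * x * g⁻¹ ∈ ⁅M0, M0⁆ := by
      intro g hg x hx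
      have h1 : g * x * g⁻¹ ∈ ⁅M0, M0⁆.map (MulAut.conj g).toMonoidHom := ⟨x, hx, rfl⟩
      rw [Subgroup.map_commutator] at h1
      have hle : M0.map (MulAut.conj g).toMonoidHom ≤ M0 := by
        rintro _ ⟨t, ht, rfl⟩
        exact hM0n g hg t ht
      exact Subgroup.commutator_mono hle hle h1
    have hperf0 : ⁅M0, M0⁆ = M0 := by
      refine hmin0 _ (Subgroup.commutator_le.2 fun a ha b hb => ?_) hDn fun hD => ?_
      · exact M0.mul_mem (M0.mul_mem (M0.mul_mem ha hb) (M0.inv_mem ha)) (M0.inv_mem hb)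
      · refine minimal_normal_solvable_false hPH hperf hPn hPns hmin hM0P hM0n hM0s ?_
        haveI : Group.IsSolvable ↥((⁅M0, M0⁆).subgroupOf M0) := by
          refine Group.isSolvable_of_comm fun a b => Subtype.ext (Subtype.ext ?_)
          exact scalar_comm (hD (Subgroup.mem_subgroupOf.1 a.2)) _
        refine solvable_of_ker_le_range ((⁅M0, M0⁆).subgroupOf M0).subtype (Abelianization.of (G := M0)) ?_
        intro t ht
        rw [Abelianization.ker_of] at ht
        refine ⟨⟨t, ?_⟩, rfl⟩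
        rw [Subgroup.mem_subgroupOf, ← Subgroup.map_subtype_commutator]
        exact ⟨t, ht, rfl⟩
    have hdich : ∀ g ∈ H, (∀ x ∈ M0, g * x * g⁻¹ ∈ M0) ∨
        ∀ x ∈ M0, ∀ z ∈ M0, g * x * g⁻¹ * z = z * (g * x * g⁻¹) := by
      intro g hg
      set M1 := M0.map (MulAut.conj g).toMonoidHom with hM1
      have hM1n : ∀ t ∈ P, ∀ y ∈ M1, t * y * t⁻¹ ∈ M1 := by
        rintro t ht _ ⟨y, hy, rfl⟩
        refine ⟨(g⁻¹ * t * g) * y * (g⁻¹ * t * g)⁻¹, hM0n _ (by simpa using hPn g⁻¹ (H.inv_mem hg) t ht) y hy, ?_⟩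
        simp only [MulEquiv.coe_toMonoidHom, MulAut.conj_apply]
        group
      have hInf : ∀ t ∈ P, ∀ y ∈ M0 ⊓ M1, t * y * t⁻¹ ∈ M0 ⊓ M1 := fun t ht y hy =>
        ⟨hM0n t ht y hy.1, hM1n t ht y hy.2⟩
      by_cases hsi : M0 ⊓ M1 ≤ Cfsg.Geo.scalars (Fin n) F
      · right
        intro y hy z hz
        refine commute_perfect hperf0 (fun z hz => ?_) z hz
        have hyM : g * y * g⁻¹ ∈ M1 := ⟨y, hy, rfl⟩
        have hzP : z ∈ P := hM0P hz
        have hyP : g * y * g⁻¹ ∈ P := hPn g hg y (hM0P hy)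
        refine hsi ⟨M0.mul_mem (hM0n _ hyP z hz) (M0.inv_mem hz), ?_⟩
        have := M1.mul_mem hyM (hM1n z hzP _ (M1.inv_mem hyM))
        simpa [mul_assoc] using this
      · left
        have heq := hmin0 _ inf_le_left hInf hsi
        have hle : M0 ≤ M1 := inf_eq_left.1 heq
        have h10 : M1 = M0 := (Subgroup.eq_of_le_of_card_ge hle (by
          rw [hM1, Subgroup.card_map_of_injective (MulAut.conj g).injective])).symm
        intro x hx
        rw [← h10]
        exact ⟨x, hx, rfl⟩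
    have hH0 : ∀ g ∈ H, ∀ x ∈ M0, g * x * g⁻¹ ∈ M0 := fun g hg => (hdich g hg).resolve_right fun h =>
      no_commuting_conjugate hb hb3 hn2 hPn hirr hmin hM0P hM0n hM0s hperf0 hdich hg h
    exact le_antisymm hM ((hmin M0 hM0P hH0 hM0s).ge.trans hM0M)
  set Z := (Cfsg.Geo.scalars (Fin n) F).subgroupOf P
  have hncQ : ¬ IsMulCommutative (P ⧸ Z) := by
    intro hc
    refine hPns ?_
    rw [← hperf, Subgroup.commutator_le]
    intro a ha b hb
    have h1 := hc.is_comm.comm (QuotientGroup.mk ⟨a, ha⟩ : P ⧸ Z) (QuotientGroup.mk ⟨b, hb⟩)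
    rw [← QuotientGroup.mk_mul, ← QuotientGroup.mk_mul, QuotientGroup.eq] at h1
    have h2 := Subgroup.mem_subgroupOf.1 h1
    have h3 : ((⟨a, ha⟩ * ⟨b, hb⟩ : P)⁻¹ * (⟨b, hb⟩ * ⟨a, ha⟩) : P).1 = (a * b)⁻¹ * (b * a) := rfl
    rw [h3] at h2
    have h4 := Subgroup.Normal.conj_mem (Cfsg.Geo.scalars_normal) _ ((Cfsg.Geo.scalars (Fin n) F).inv_mem h2) (a * b)
    rw [commutatorElement_def]
    have h5 : a * b * ((a * b)⁻¹ * (b * a))⁻¹ * (a * b)⁻¹ = a * b * a⁻¹ * b⁻¹ := by group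
    rw [h5] at h4
    exact h4
  refine ⟨?_, hncQ, fun h _ hx => hcentral h hx⟩
  haveI : Nontrivial (P ⧸ Z) := by
    rw [← not_subsingleton_iff_nontrivial]
    intro hsub
    exact hncQ ⟨⟨fun a b => Subsingleton.elim _ _⟩⟩
  refine { eq_bot_or_eq_top_of_normal := fun K hK => ?_ }
  set M := (K.comap (QuotientGroup.mk' Z)).map P.subtype with hMdef
  have hMn : ∀ g ∈ P, ∀ x ∈ M, g * x * g⁻¹ ∈ M := by
    rintro g hg _ ⟨x, hx, rfl⟩
    have hKc : (K.comap (QuotientGroup.mk' Z)).Normal := hK.comap (QuotientGroup.mk' Z)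
    let g' : P := ⟨g, hg⟩
    refine Subgroup.mem_map.2 ⟨g' * x * g'⁻¹, hKc.conj_mem x hx g', ?_⟩
    rw [map_mul, map_mul, map_inv]
    rfl
  by_cases hMs : M ≤ Cfsg.Geo.scalars (Fin n) F
  · left
    refine eq_bot_iff.2 fun t ht => ?_
    obtain ⟨x, rfl⟩ := QuotientGroup.mk'_surjective Z t
    exact (QuotientGroup.eq_one_iff x).2 (Subgroup.mem_subgroupOf.2 (hMs ⟨x, ht, rfl⟩))
  · right
    have := hsimple M (Subgroup.map_subtype_le _) hMn hMs
    refine eq_top_iff.2 fun t _ => ?_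
    obtain ⟨x, rfl⟩ := QuotientGroup.mk'_surjective Z t
    have hx : (x : GL (Fin n) F) ∈ M := by rw [this]; exact x.2
    obtain ⟨y, hy, e⟩ := hx
    exact (Subtype.ext e : y = x) ▸ hy

end Cfsg.Agent.TwoPrime
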