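import Cfsg.Agent.Lib.TwoPrime.Tensor
import Cfsg.Agent.Lib.PrimeDim.Core

/-!
An irreducible minimal normal subgroup of an irreducible group whose degree is twice an odd prime.
-/

set_option autoImplicit false

namespace Cfsg.Agent.TwoPrime

open scoped Matrix MatrixGroups commutatorElement
open Module PrimeDim Polynomial

variable {n : ℕ} {F : Type*} [Field F]

local notation "V" => Fin n → F

local notation "Mat" => Matrix (Fin n) (Fin n) F

variable {G0 N : Subgroup (GL (Fin n) F)}

/-- The commutant of a set of matrices. -/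
def commutantAlg (N : Subgroup (GL (Fin n) F)) : Subalgebra F Mat :=
  Subalgebra.centralizer F (Cfsg.Geo.matrixSet N)

theorem mem_commutantAlg {a : Mat} : a ∈ commutantAlg N ↔ ∀ x ∈ N, a * (x : Mat) = (x : Mat) * a := by
  constructor
  · exact fun h x hx => (Subalgebra.mem_centralizer_iff F |>.1 h _ ⟨x, hx, rfl⟩).symm
  · rintro h
    refine (Subalgebra.mem_centralizer_iff F).2 ?_
    rintro _ ⟨x, hx, rfl⟩
    exact (h x hx).symm

theorem commutant_ker (hN : Irr N) {a : Mat} (ha : a ∈ commutantAlg N) (ha0 : a ≠ 0) {v : V} (hv : a *ᵥ v = 0) :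
    v = 0 := by
  rcases hN (LinearMap.ker (Matrix.toLin' a)) (fun g hg w hw => by
    rw [LinearMap.mem_ker, Matrix.toLin'_apply] at hw ⊢
    rw [Matrix.mulVec_mulVec, mem_commutantAlg.1 ha g hg, ← Matrix.mulVec_mulVec, hw, Matrix.mulVec_zero]) with h | h
  · have : v ∈ LinearMap.ker (Matrix.toLin' a) := by simpa using hv
    rwa [h, Submodule.mem_bot] at this
  · exact absurd (Matrix.toLin'.injective (by rw [LinearMap.ker_eq_top.1 h, map_zero])) ha0

theorem commutant_isDomain [NeZero n] (hN : Irr N) : IsDomain (commutantAlg N) := by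
  haveI : Nontrivial (commutantAlg N) := ⟨⟨0, 1, fun e => zero_ne_one (α := Mat) (congrArg Subtype.val e)⟩⟩
  haveI : NoZeroDivisors (commutantAlg N) := ⟨fun {a b} h => by
    refine or_iff_not_imp_left.2 fun ha => Subtype.ext (Matrix.ext_iff_mulVec.2 fun v => ?_)
    have h1 : ((a : Mat) * (b : Mat)) *ᵥ v = 0 := by
      rw [show (a : Mat) * (b : Mat) = 0 from congrArg Subtype.val h, Matrix.zero_mulVec]
    rw [← Matrix.mulVec_mulVec] at h1
    rw [commutant_ker hN a.2 (fun e => ha (Subtype.ext e)) h1]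
    simp⟩
  exact NoZeroDivisors.to_isDomain _

theorem finrank_commutant_dvd [Finite F] [NeZero n] (hN : Irr N) : finrank F (commutantAlg N) ∣ n := by
  classical
  haveI := commutant_isDomain hN
  set K := commutantAlg N
  let ev : V → (K.toSubmodule →ₗ[F] V) := fun v =>
    (LinearMap.applyₗ v).comp ((Matrix.toLin' (R := F) (m := Fin n) (n := Fin n)).toLinearMap.comp K.toSubmodule.subtype)
  have hev : ∀ v (a : K.toSubmodule), ev v a = (a : Mat) *ᵥ v := fun v a => rfl
  have hevi : ∀ v : V, v ≠ 0 → Function.Injective (ev v) := by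
    intro v hv
    rw [← LinearMap.ker_eq_bot, eq_bot_iff]
    intro a ha
    rw [LinearMap.mem_ker, hev] at ha
    by_contra h0
    exact hv (commutant_ker hN a.2 (fun e => h0 (by simpa using Subtype.ext_iff.2 e)) ha)
  refine dvd_of_cover (K : Set Mat) (fun v : {v : V // v ≠ 0} => LinearMap.range (ev v)) _
    (fun v => (LinearEquiv.ofInjective _ (hevi v v.2)).finrank_eq.symm) (fun v U hU => ?_)
    (fun v a ha u hu => ?_) ?_
  · refine or_iff_not_imp_left.2 fun hne => ?_
    obtain ⟨u, hu, hu0⟩ := Submodule.exists_mem_ne_zero_of_ne_bot hne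
    obtain ⟨hu1, a, rfl⟩ := hu
    have ha0 : (a : Mat) ≠ 0 := fun e => hu0 (by rw [hev, e, Matrix.zero_mulVec])
    obtain ⟨b, hb⟩ : ∃ b : K, b * (⟨a, a.2⟩ : K) = 1 :=
      Finite.injective_iff_surjective.1 (mul_left_injective₀ (b := (⟨a, a.2⟩ : K))
        fun e => ha0 (congrArg Subtype.val e)) 1
    rintro x ⟨c, rfl⟩
    have hb'' : (b : Mat) * a = 1 := congrArg Subtype.val hb
    have h2 := hU ((c : Mat) * b) (K.mul_mem c.2 b.2) _ hu1
    rw [hev, Matrix.mulVec_mulVec, mul_assoc, hb'', mul_one] at h2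
    exact h2
  · obtain ⟨c, rfl⟩ := hu
    exact ⟨⟨a * c, K.mul_mem ha c.2⟩, by simp [hev, Matrix.mulVec_mulVec]⟩
  · refine top_unique fun v _ => ?_
    by_cases hv : v = 0
    · simp [hv]
    · exact Submodule.mem_iSup_of_mem ⟨v, hv⟩ ⟨⟨1, K.one_mem⟩, by simp [hev]⟩

/-- In a finite domain: the solutions of `x ^ m = x` and an element of order `m - 1`. -/
theorem domain_roots (L : Type*) [Ring L] [IsDomain L] [Finite L] (m : ℕ) (hm : 1 < m)
    (hdvd : m - 1 ∣ Nat.card L - 1) :
    Nat.card {x : L // x ^ m = x} ≤ m ∧ ∃ w : L, w ^ m = w ∧ orderOf w = m - 1 := by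
  classical
  letI := (Finite.isDomain_to_isField L).toField
  refine ⟨?_, ?_⟩
  · have hne : (X ^ m - X : Polynomial L) ≠ 0 := FiniteField.X_pow_card_sub_X_ne_zero L hm
    let f : {x : L // x ^ m = x} → (X ^ m - X : Polynomial L).roots.toFinset := fun a =>
      ⟨a.1, Multiset.mem_toFinset.2 ((mem_roots hne).2 (by simp [IsRoot, a.2]))⟩
    have hfi : Function.Injective f := fun a c e => Subtype.ext (congrArg Subtype.val e :)
    refine (Nat.card_le_card_of_injective f hfi).trans ?_
    rw [Nat.card_eq_fintype_card, Fintype.card_coe]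
    refine (Multiset.toFinset_card_le _).trans ((card_roots' _).trans ?_)
    rw [FiniteField.X_pow_card_sub_X_natDegree_eq L hm]
  · obtain ⟨u, hu⟩ := IsCyclic.exists_ofOrder_eq_natCard (α := Lˣ)
    rw [Nat.card_units] at hu
    have h1 : 0 < Nat.card L - 1 := by
      have : 1 < Nat.card L := Finite.one_lt_card
      omega
    have hw : orderOf (u ^ ((Nat.card L - 1) / (m - 1))) = m - 1 := by
      rw [orderOf_pow_of_dvd (Nat.div_pos (Nat.le_of_dvd h1 hdvd) (by omega)).ne'
        (by rw [hu]; exact Nat.div_dvd_of_dvd hdvd), hu, Nat.div_div_self hdvd h1.ne']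
    set w := u ^ ((Nat.card L - 1) / (m - 1))
    refine ⟨(w : L), ?_, by rw [orderOf_units, hw]⟩
    rw [← Units.val_pow_eq_pow_val, show m = (m - 1) + 1 by omega, pow_succ, orderOf_dvd_iff_pow_eq_one.1 hw.dvd,
      one_mul]

/-- The fixed points of a power of the Frobenius map in the commutant. -/
theorem exists_quadratic_sub [Fintype F] [NeZero n] (hN : Irr N) {b : ℕ} (hb : 1 < b)
    (hf : finrank F (commutantAlg N) = 2 * b) :
    ∃ K : Subalgebra F Mat, K ≤ commutantAlg N ∧ finrank F K = 2 ∧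
      ∀ a, a ∈ K ↔ a ∈ commutantAlg N ∧ a ^ Fintype.card F ^ 2 = a := by
  classical
  haveI := commutant_isDomain hN
  have hfield : IsField (commutantAlg N) := Finite.isDomain_to_isField _
  have hcm : ∀ a ∈ commutantAlg N, ∀ c ∈ commutantAlg N, Commute a c := fun a ha c hc =>
    congrArg Subtype.val (hfield.mul_comm (⟨a, ha⟩ : commutantAlg N) ⟨c, hc⟩)
  set q := Fintype.card F
  have hq : 1 < q := Fintype.one_lt_card
  obtain ⟨p, hchar⟩ := CharP.exists F
  haveI := hchar
  obtain ⟨e, hp, hcard⟩ := FiniteField.card F p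
  haveI : Fact p.Prime := ⟨hp⟩
  have hqp : q ^ 2 = p ^ ((e : ℕ) * 2) := by rw [show q = p ^ (e : ℕ) from hcard, ← pow_mul]
  let K : Subalgebra F Mat :=
    { carrier := {a | a ∈ commutantAlg N ∧ a ^ q ^ 2 = a}
      mul_mem' := fun {a c} ha hc => ⟨(commutantAlg N).mul_mem ha.1 hc.1, by
        rw [(hcm a ha.1 c hc.1).mul_pow, ha.2, hc.2]⟩
      one_mem' := ⟨(commutantAlg N).one_mem, one_pow _⟩
      add_mem' := fun {a c} ha hc => ⟨(commutantAlg N).add_mem ha.1 hc.1, by
        rw [hqp] at ha hc ⊢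
        rw [add_pow_char_pow_of_commute p _ (hcm a ha.1 c hc.1), ha.2, hc.2]⟩
      zero_mem' := ⟨(commutantAlg N).zero_mem, zero_pow (pow_ne_zero _ (by omega))⟩
      algebraMap_mem' := fun c => ⟨(commutantAlg N).algebraMap_mem c, by
        rw [← map_pow, FiniteField.pow_card_pow]⟩ }
  have hcardC : Nat.card (commutantAlg N) = q ^ (2 * b) := by
    rw [Module.natCard_eq_pow_finrank (K := F), Nat.card_eq_fintype_card, hf]
  have hdvd : q ^ 2 - 1 ∣ Nat.card (commutantAlg N) - 1 := by
    have h1 := Nat.sub_dvd_pow_sub_pow (q ^ 2) 1 b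
    rwa [one_pow, ← pow_mul, ← hcardC] at h1
  obtain ⟨hroots, w, hwp, hwo⟩ :=
    domain_roots (commutantAlg N) (q ^ 2) (Nat.one_lt_pow two_ne_zero hq) hdvd
  have hcardK : Nat.card K ≤ q ^ 2 := by
    refine le_trans (Nat.card_le_card_of_injective
      (fun a : K => (⟨⟨a.1, a.2.1⟩, Subtype.ext a.2.2⟩ : {x : commutantAlg N // x ^ q ^ 2 = x})) ?_) hroots
    exact fun a c e => Subtype.ext (congrArg (fun z : {x : commutantAlg N // x ^ q ^ 2 = x} => ((z.1 : Mat))) e :)
  refine ⟨K, fun a ha => ha.1, ?_, fun a => Iff.rfl⟩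
  have hKfin : Nat.card K = q ^ finrank F K := by
    rw [Module.natCard_eq_pow_finrank (K := F), Nat.card_eq_fintype_card]
  have h2 : finrank F K ≤ 2 := by
    rw [hKfin] at hcardK
    exact (Nat.pow_le_pow_iff_right hq).1 hcardK
  have h1 : finrank F K ≠ 1 := by
    intro e1
    obtain ⟨c, hc⟩ := exists_smul_eq_of_finrank_eq_one e1 (x := (1 : K))
      (fun e => one_ne_zero (α := Mat) (congrArg Subtype.val e)) ⟨(w : Mat), w.2, congrArg Subtype.val hwp⟩
    have hc' : (w : Mat) = c • (1 : Mat) := (congrArg Subtype.val hc).symm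
    have h3 : w ^ (q - 1) = 1 := by
      refine Subtype.ext ?_
      have hc0 : c ≠ 0 := fun e0 => by
        have hw0 : w = 0 := Subtype.ext (by rw [hc', e0, zero_smul]; rfl)
        rw [hw0, orderOf_zero] at hwo
        have := Nat.one_lt_pow two_ne_zero hq
        omega
      rw [SubmonoidClass.coe_pow, hc', _root_.smul_pow, one_pow, FiniteField.pow_card_sub_one_eq_one c hc0, one_smul]
      rfl
    have h4 := orderOf_dvd_of_pow_eq_one h3
    rw [hwo] at h4
    have h5 := Nat.le_of_dvd (by omega) h4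
    have : q < q ^ 2 := by nlinarith
    omega
  have h0 : finrank F K ≠ 0 := by
    haveI : Nontrivial K := ⟨⟨0, 1, fun e => zero_ne_one (α := Mat) (congrArg Subtype.val e)⟩⟩
    exact finrank_pos.ne'
  omega

/-- A normalised field of prime degree in the commutant. -/
theorem exists_field [Fintype F] [NeZero n] {b : ℕ} (hb : b.Prime) (hn2 : n = 2 * b)
    (hn : ∀ g ∈ G0, ∀ x ∈ N, g * x * g⁻¹ ∈ N) (hN : Irr N) (hsc : ¬ ScalarCommutant N) :
    ∃ (r : ℕ) (K : Subalgebra F Mat), (r = 2 ∨ r = b) ∧ Cfsg.Geo.IsFieldSubalgebra r K ∧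
      G0 ≤ Cfsg.Geo.subalgebraNormalizer K := by
  classical
  haveI := commutant_isDomain hN
  have hfield : IsField (commutantAlg N) := Finite.isDomain_to_isField _
  have hconj : ∀ g ∈ G0, ∀ a ∈ commutantAlg N,
      (g : Mat) * a * ((g⁻¹ : GL (Fin n) F) : Mat) ∈ commutantAlg N := by
    intro g hg a ha
    rw [mem_commutantAlg] at ha ⊢
    intro x hx
    have h1 := ha _ (show g⁻¹ * x * g ∈ N by simpa using hn g⁻¹ (G0.inv_mem hg) x hx)
    have h2 := congrArg (fun M => (g : Mat) * M * ((g⁻¹ : GL (Fin n) F) : Mat)) h1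
    simp only [Units.val_mul, ← mul_assoc] at h2
    simpa [mul_assoc] using h2
  have hcomm : ∀ a ∈ commutantAlg N, ∀ c ∈ commutantAlg N, a * c = c * a := fun a ha c hc =>
    congrArg Subtype.val (hfield.mul_comm (⟨a, ha⟩ : commutantAlg N) ⟨c, hc⟩)
  have hinv : ∀ K : Subalgebra F Mat, K ≤ commutantAlg N → ∀ a ∈ K, a ≠ 0 → ∃ c ∈ K, a * c = 1 := by
    intro K hK a ha ha0
    let L : K → K := fun c => ⟨a * c, K.mul_mem ha c.2⟩
    have hL : Function.Injective L := by
      intro c c' e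
      refine Subtype.ext (sub_eq_zero.1 (Matrix.ext_iff_mulVec.2 fun v => ?_))
      rw [Matrix.zero_mulVec]
      refine commutant_ker hN (hK ha) ha0 ?_
      have e' : a * (c : Mat) = a * (c' : Mat) := congrArg Subtype.val e
      rw [Matrix.mulVec_mulVec, mul_sub, e', sub_self, Matrix.zero_mulVec]
    obtain ⟨c, hc⟩ := Finite.injective_iff_surjective.1 hL ⟨1, K.one_mem⟩
    exact ⟨c, c.2, congrArg Subtype.val hc⟩
  have hmk : ∀ (r : ℕ) (K : Subalgebra F Mat), K ≤ commutantAlg N → finrank F K = r →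
      (∀ g ∈ G0, ∀ a ∈ K, (g : Mat) * a * ((g⁻¹ : GL (Fin n) F) : Mat) ∈ K) →
      Cfsg.Geo.IsFieldSubalgebra r K ∧ G0 ≤ Cfsg.Geo.subalgebraNormalizer K := by
    refine fun r K hK hr hconjK => ⟨⟨fun a ha c hc => hcomm a (hK ha) c (hK hc), hinv K hK, hr⟩, fun g hg a => ?_⟩
    refine ⟨hconjK g hg a, fun h => ?_⟩
    simpa [mul_assoc, ← Units.val_mul] using hconjK g⁻¹ (G0.inv_mem hg) _ h
  obtain ⟨M, hM, hMs⟩ : ∃ M, M ∈ commutantAlg N ∧ ∀ c : F, M ≠ c • (1 : Mat) := by
    unfold ScalarCommutant at hsc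
    push Not at hsc
    obtain ⟨M, hM, h⟩ := hsc
    exact ⟨M, mem_commutantAlg.2 hM, h⟩
  have hf1 : finrank F (commutantAlg N) ≠ 1 := by
    intro e
    obtain ⟨c, hc⟩ := exists_smul_eq_of_finrank_eq_one e (x := (1 : commutantAlg N))
      (fun e => one_ne_zero (α := Mat) (congrArg Subtype.val e)) ⟨M, hM⟩
    exact hMs c (congrArg Subtype.val hc).symm
  have hdvd : finrank F (commutantAlg N) ∣ 2 * b := (finrank_commutant_dvd hN).trans (dvd_of_eq hn2)
  obtain ⟨y, z, hy, hz, hyz⟩ := (Nat.dvd_mul).1 hdvd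
  rcases (Nat.dvd_prime Nat.prime_two).1 hy with rfl | rfl <;> rcases (Nat.dvd_prime hb).1 hz with rfl | rfl
  · exact absurd hyz.symm (by simpa using hf1)
  · obtain ⟨h1, h2⟩ := hmk z _ le_rfl (by simpa using hyz.symm) hconj
    exact ⟨z, _, Or.inr rfl, h1, h2⟩
  · obtain ⟨h1, h2⟩ := hmk 2 _ le_rfl (by simpa using hyz.symm) hconj
    exact ⟨2, _, Or.inl rfl, h1, h2⟩
  · obtain ⟨K, hK, hK2, hmem⟩ := exists_quadratic_sub hN hb.one_lt hyz.symm
    obtain ⟨h1, h2⟩ := hmk 2 K hK hK2 fun g hg a ha => by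
      obtain ⟨ha1, ha2⟩ := (hmem a).1 ha
      refine (hmem _).2 ⟨hconj g hg a ha1, ?_⟩
      rw [Units.conj_pow, ha2]
    exact ⟨2, K, Or.inl rfl, h1, h2⟩

/-- An absolutely irreducible group which is abelian modulo scalars: its square-counting. -/
theorem classTwo_card [Finite F] [NeZero n] (hN : Irr N) (hsc : ScalarCommutant N)
    (hD : ∀ x ∈ N, ∀ y ∈ N, x * y * x⁻¹ * y⁻¹ ∈ Cfsg.Geo.scalars (Fin n) F) :
    Nat.card (N ⧸ (Cfsg.Geo.scalars (Fin n) F).subgroupOf N) = n ^ 2 := by
  classical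
  set Z := (Cfsg.Geo.scalars (Fin n) F).subgroupOf N
  haveI : Finite (N ⧸ Z) := inferInstance
  haveI : Fintype (N ⧸ Z) := Fintype.ofFinite _
  let t : N ⧸ Z → Mat := fun c => ((c.out : N) : GL (Fin n) F)
  have hχ : ∀ (x : N) (c : N ⧸ Z), ∃ a : Fˣ, ((x : GL (Fin n) F) * (c.out : N) * (x : GL (Fin n) F)⁻¹ *
      ((c.out : N) : GL (Fin n) F)⁻¹).val = (a : F) • (1 : Mat) :=
    fun x c => (Cfsg.Geo.mem_scalars_iff _).1 (hD x x.2 (c.out : N) (c.out : N).2)
  choose χ' hχ' using hχ
  let χ : N → N ⧸ Z → F := fun x c => (χ' x c : F)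
  have hχ : ∀ (x : N) (c : N ⧸ Z),
      ((x : GL (Fin n) F) : Mat) * t c * (((x : GL (Fin n) F)⁻¹ : GL (Fin n) F) : Mat) = χ x c • t c := by
    intro x c
    have h := congrArg (· * t c) (hχ' x c)
    simp only [Units.val_mul, t, Units.inv_mul_cancel_right, smul_mul_assoc, one_mul] at h
    exact h
  -- distinct cosets have distinct characters
  have hinj : ∀ c c', (∀ x, χ x c = χ x c') → c = c' := by
    intro c c' h
    have hcen : ∀ x ∈ N, ((c.out : N) : GL (Fin n) F)⁻¹ * (c'.out : N) * x =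
        x * (((c.out : N) : GL (Fin n) F)⁻¹ * (c'.out : N)) := by
      intro x hx
      have hz : x * (c.out : N) * x⁻¹ * ((c.out : N) : GL (Fin n) F)⁻¹ =
          x * (c'.out : N) * x⁻¹ * ((c'.out : N) : GL (Fin n) F)⁻¹ := by
        refine Units.ext ?_
        rw [hχ' ⟨x, hx⟩ c, hχ' ⟨x, hx⟩ c']
        exact congrArg (· • (1 : Mat)) (h ⟨x, hx⟩)
      have hsz := scalar_comm (hD x hx _ (c'.out : N).2)
      have e1 : x * (c.out : N) * x⁻¹ = (x * (c'.out : N) * x⁻¹ * ((c'.out : N) : GL (Fin n) F)⁻¹) * (c.out : N) := by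
        rw [← hz]; group
      have e2 : x * (c'.out : N) * x⁻¹ = (x * (c'.out : N) * x⁻¹ * ((c'.out : N) : GL (Fin n) F)⁻¹) * (c'.out : N) := by
        group
      generalize x * (c'.out : N) * x⁻¹ * ((c'.out : N) : GL (Fin n) F)⁻¹ = z at e1 e2 hsz
      have key : x * (((c.out : N) : GL (Fin n) F)⁻¹ * (c'.out : N)) * x⁻¹ =
          ((c.out : N) : GL (Fin n) F)⁻¹ * (c'.out : N) := by
        calc _ = (x * (c.out : N) * x⁻¹)⁻¹ * (x * (c'.out : N) * x⁻¹) := by group
          _ = _ := by rw [e1, e2]; group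
      conv_lhs => rw [← key]
      group
    have h7 := mem_scalars_of_commutant (Nat.pos_of_ne_zero (NeZero.ne n)) hsc hcen
    rw [← QuotientGroup.out_eq' c, ← QuotientGroup.out_eq' c']
    exact QuotientGroup.eq.2 (Subgroup.mem_subgroupOf.2 h7)
  have hindep : LinearIndependent F t := by
    rw [Fintype.linearIndependent_iff]
    intro g hg
    by_contra hne
    push Not at hne
    have hex : ∃ k, ∃ g : N ⧸ Z → F, (∑ c, g c • t c = 0 ∧ ∃ c, g c ≠ 0) ∧
        (Finset.univ.filter fun c => g c ≠ 0).card = k := ⟨_, g, ⟨hg, hne⟩, rfl⟩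
    obtain ⟨g, ⟨hg, hne⟩, hk⟩ := Nat.find_spec hex
    have hmin : ∀ g' : N ⧸ Z → F, (∑ c, g' c • t c = 0 ∧ ∃ c, g' c ≠ 0) →
        (Finset.univ.filter fun c => g c ≠ 0).card ≤ (Finset.univ.filter fun c => g' c ≠ 0).card :=
      fun g' h => hk ▸ Nat.find_min' hex ⟨g', h, rfl⟩
    obtain ⟨c₁, hc₁⟩ := hne
    have hall : ∀ c, g c ≠ 0 → c = c₁ := by
      intro c hc
      by_contra hcc
      obtain ⟨x, hx⟩ : ∃ x, χ x c ≠ χ x c₁ := by
        by_contra h
        push Not at h
        exact hcc (hinj c c₁ h)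
      have h1 : ∑ e, (g e * (χ x e - χ x c₁)) • t e = 0 := by
        have h2 : ∑ e, (g e * χ x e) • t e = 0 := by
          have := congrArg (fun M => ((x : GL (Fin n) F) : Mat) * M * (((x : GL (Fin n) F)⁻¹ : GL (Fin n) F) : Mat)) hg
          simp only [Finset.mul_sum, Finset.sum_mul, mul_smul_comm, smul_mul_assoc, hχ, smul_smul, mul_zero,
            zero_mul] at this
          exact this
        have h3 : ∑ e, (g e * χ x c₁) • t e = 0 := by
          simp_rw [mul_comm (g _), ← smul_smul]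
          rw [← Finset.smul_sum, hg, smul_zero]
        simp only [mul_sub, sub_smul, Finset.sum_sub_distrib, h2, h3, sub_zero]
      have h4 := hmin _ ⟨h1, c, mul_ne_zero hc (sub_ne_zero.2 hx)⟩
      refine absurd h4 (not_le.2 (Finset.card_lt_card ?_))
      have hsub : (Finset.univ.filter fun e => g e * (χ x e - χ x c₁) ≠ 0) ⊆ Finset.univ.filter fun e => g e ≠ 0 :=
        fun e he => by
          simp only [Finset.mem_filter, Finset.mem_univ, true_and] at he ⊢
          exact left_ne_zero_of_mul he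
      exact (Finset.ssubset_iff_of_subset hsub).2 ⟨c₁, by simp [hc₁], by simp⟩
    have h5 : g c₁ • t c₁ = 0 := by
      have h := Finset.sum_eq_single (s := Finset.univ) (f := fun e => g e • t e) c₁
        (fun e _ he => by
          show g e • t e = 0
          rw [show g e = 0 from not_not.1 (fun h => he (hall e h)), zero_smul]) (by simp)
      exact h.symm.trans hg
    exact (((c₁.out : N) : GL (Fin n) F)).ne_zero ((smul_eq_zero.1 h5).resolve_left hc₁)
  -- the span contains a row space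
  set S := Submodule.span F (Set.range t)
  have hSx : ∀ M ∈ S, ∀ x ∈ N, M * (x : Mat) ∈ S := by
    intro M hM x hx
    induction hM using Submodule.span_induction with
    | mem M hM =>
      obtain ⟨c, rfl⟩ := hM
      set c' : N ⧸ Z := QuotientGroup.mk (c.out * ⟨x, hx⟩)
      obtain ⟨z, hz⟩ := QuotientGroup.mk_out_eq_mul Z (c.out * ⟨x, hx⟩)
      obtain ⟨a, ha⟩ := (Cfsg.Geo.mem_scalars_iff _).1 (Subgroup.mem_subgroupOf.1 z.2)
      have h1 : t c' = (a : F) • (t c * (x : Mat)) := by
        show (((c'.out : N) : GL (Fin n) F) : Mat) = _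
        rw [hz]
        simp [Units.val_mul, ha, t]
      have h2 : t c * (x : Mat) = ((a : F)⁻¹) • t c' := by
        rw [h1, smul_smul, inv_mul_cancel₀ a.ne_zero, one_smul]
      rw [h2]
      exact S.smul_mem _ (Submodule.subset_span ⟨c', rfl⟩)
    | zero => simp
    | add M M' _ _ h h' => rw [add_mul]; exact S.add_mem h h'
    | smul a M _ h => rw [smul_mul_assoc]; exact S.smul_mem a h
  -- conjugation average
  have hav : ∀ M : Mat, ∃ a : F, ∑ c, t c * M * (((c.out : N) : GL (Fin n) F)⁻¹ : GL (Fin n) F).val = a • (1 : Mat) := by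
    intro M
    refine hsc _ fun x hx => ?_
    have key : ∀ c, (x : Mat) * (t c * M * (((c.out : N) : GL (Fin n) F)⁻¹ : GL (Fin n) F).val) =
        t (QuotientGroup.mk ⟨x, hx⟩ * c) * M *
          ((((QuotientGroup.mk ⟨x, hx⟩ * c : N ⧸ Z).out : N) : GL (Fin n) F)⁻¹ : GL (Fin n) F).val * (x : Mat) := by
      intro c
      have hc : QuotientGroup.mk ⟨x, hx⟩ * c = (QuotientGroup.mk (⟨x, hx⟩ * c.out) : N ⧸ Z) := by
        rw [QuotientGroup.mk_mul, QuotientGroup.out_eq']
      obtain ⟨z, hz⟩ := QuotientGroup.mk_out_eq_mul Z (⟨x, hx⟩ * c.out)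
      obtain ⟨a, ha⟩ := (Cfsg.Geo.mem_scalars_iff _).1 (Subgroup.mem_subgroupOf.1 z.2)
      have ha' : ((((z : N) : GL (Fin n) F))⁻¹ : GL (Fin n) F).val = ((a : F)⁻¹) • (1 : Mat) := by
        refine Units.inv_eq_of_mul_eq_one_right ?_
        rw [ha, smul_mul_smul_comm, mul_one, mul_inv_cancel₀ a.ne_zero, one_smul]
      rw [hc]
      simp only [t, hz, Subgroup.coe_mul, mul_inv_rev, Units.val_mul, ha, ha', smul_mul_assoc, mul_smul_comm,
        mul_one, one_mul, smul_smul]
      rw [inv_mul_cancel₀ a.ne_zero, one_smul]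
      simp [mul_assoc]
    symm
    rw [Finset.mul_sum, Finset.sum_mul, Finset.sum_congr rfl fun c _ => key c]
    exact Equiv.sum_comp (Equiv.mulLeft (QuotientGroup.mk ⟨x, hx⟩ : N ⧸ Z))
      (fun c => t c * M * (((c.out : N) : GL (Fin n) F)⁻¹ : GL (Fin n) F).val * (x : Mat))
  choose a ha using hav
  obtain ⟨i, j, hij⟩ : ∃ i j : Fin n, a (Matrix.single i j 1) ≠ 0 := by
    by_contra hc
    push Not at hc
    obtain ⟨c₀⟩ : Nonempty (N ⧸ Z) := inferInstance
    refine (((c₀.out : N) : GL (Fin n) F)⁻¹).ne_zero (Matrix.ext fun j b => ?_)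
    rw [Matrix.zero_apply]
    refine (Fintype.linearIndependent_iff.1 hindep (fun c => (((c.out : N) : GL (Fin n) F)⁻¹ : GL (Fin n) F).val j b) ?_) c₀
    ext a' i
    have h1 := congrFun (congrFun (ha (Matrix.single i j 1)) a') b
    rw [hc, zero_smul, Matrix.zero_apply, Matrix.sum_apply] at h1
    rw [Matrix.sum_apply, Matrix.zero_apply, ← h1]
    refine Finset.sum_congr rfl fun c _ => ?_
    simp [Matrix.mul_apply, Matrix.single_apply, ite_and, mul_comm]
  set w : V := fun i => a (Matrix.single i j 1)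
  have hw0 : w ≠ 0 := fun e => hij (congrFun e i)
  let R : Submodule F V :=
    { carrier := {w | ∀ u : V, Matrix.vecMulVec u w ∈ S}
      add_mem' := fun {p q} hp hq u => by rw [Matrix.vecMulVec_add]; exact S.add_mem (hp u) (hq u)
      zero_mem' := fun u => by simp
      smul_mem' := fun c p hp u => by rw [Matrix.vecMulVec_smul]; exact S.smul_mem c (hp u) }
  have hwR : w ∈ R := by
    intro u
    have hb : ∀ b, Matrix.vecMulVec (Pi.single b 1) w ∈ S := by
      intro b
      have : Matrix.vecMulVec (Pi.single b 1) w =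
          ∑ c, (((c.out : N) : GL (Fin n) F)⁻¹ : GL (Fin n) F).val j b • t c := by
        ext a' i
        have h1 := congrFun (congrFun (ha (Matrix.single i j 1)) a') b
        rw [Matrix.sum_apply] at h1 ⊢
        rw [Matrix.vecMulVec_apply]
        calc (Pi.single b (1 : F) : V) a' * w i = (a (Matrix.single i j 1) • (1 : Mat)) a' b := by
              simp [w, Matrix.one_apply, Pi.single_apply, eq_comm]
          _ = _ := h1.symm
          _ = _ := Finset.sum_congr rfl fun c _ => by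
              simp [Matrix.mul_apply, Matrix.single_apply, ite_and, mul_comm]
      rw [this]
      exact S.sum_mem fun c _ => S.smul_mem _ (Submodule.subset_span ⟨c, rfl⟩)
    have hu : Matrix.vecMulVec u w = ∑ b, u b • Matrix.vecMulVec (Pi.single b 1) w := by
      ext p q
      simp [Matrix.sum_apply, Matrix.vecMulVec_apply, Pi.single_apply]
    rw [hu]
    exact S.sum_mem fun b _ => S.smul_mem _ (hb b)
  have hRx : ∀ p ∈ R, ∀ x ∈ N, p ᵥ* (x : Mat) ∈ R := fun p hp x hx u => by
    rw [← Matrix.vecMulVec_mul]; exact hSx _ (hp u) x hx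
  have hRtop : R = ⊤ := by
    by_contra hR
    obtain ⟨f, hf0, hf⟩ := Submodule.exists_dual_map_eq_bot_of_lt_top (lt_top_iff_ne_top.2 hR) inferInstance
    set v : V := fun i => f (Pi.single i 1)
    have hfv : ∀ p, f p = p ⬝ᵥ v := fun p => by
      conv_lhs => rw [pi_eq_sum_univ' p, map_sum]
      exact Finset.sum_congr rfl fun i _ => by rw [map_smul, smul_eq_mul]
    let A : Submodule F V :=
      { carrier := {v | ∀ p ∈ R, p ⬝ᵥ v = 0}
        add_mem' := fun {p q} hp hq r hr => by rw [dotProduct_add, hp r hr, hq r hr, add_zero]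
        zero_mem' := fun r _ => dotProduct_zero r
        smul_mem' := fun c p hp r hr => by rw [dotProduct_smul, hp r hr, smul_zero] }
    have hvA : v ∈ A := fun p hp => by
      rw [← hfv]
      have := Submodule.mem_map_of_mem (f := f) hp
      rwa [hf, Submodule.mem_bot] at this
    rcases hN A (fun x hx z hz p hp => by rw [Matrix.dotProduct_mulVec]; exact hz _ (hRx p hp x hx)) with h | h
    · rw [h, Submodule.mem_bot] at hvA
      exact hf0 (LinearMap.ext fun p => by rw [hfv, hvA, dotProduct_zero, LinearMap.zero_apply])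
    · refine hw0 (funext fun l => ?_)
      have := (h ▸ Submodule.mem_top : Pi.single l (1 : F) ∈ A) w hwR
      simpa using this
  have hStop : S = ⊤ := by
    refine top_unique fun M _ => ?_
    have : M = ∑ i, Matrix.vecMulVec (Pi.single i 1) (M i) := by
      ext p q
      simp [Matrix.sum_apply, Matrix.vecMulVec_apply, Pi.single_apply]
    rw [this]
    exact S.sum_mem fun i _ => (hRtop ▸ Submodule.mem_top : M i ∈ R) _
  have h1 := finrank_span_eq_card hindep
  rw [show Submodule.span F (Set.range t) = ⊤ from hStop, finrank_top, Module.finrank_matrix, Fintype.card_fin,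
    finrank_self, mul_one] at h1
  rw [Nat.card_eq_fintype_card, ← h1, pow_two]

end Cfsg.Agent.TwoPrime
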