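import Cfsg.Agent.Lib.TwoPrime.Clifford
import Cfsg.Agent.Lib.TransvMax.TensorEl

/-!
A subgroup acting on one factor of a tensor decomposition: its normaliser stabilises the decomposition, and if
the subgroup is commutative it generates a field.
-/

set_option autoImplicit false

namespace Cfsg.Agent.TwoPrime

open scoped Matrix MatrixGroups Kronecker
open Module PrimeDim

variable {n : ℕ} {F : Type*} [Field F]

local notation "V" => Fin n → F

local notation "Mat" => Matrix (Fin n) (Fin n) F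

variable {N : Subgroup (GL (Fin n) F)} {k d : ℕ}

theorem TensorBasis.repr_act (T : TensorBasis N k d) (x : N) (v : V) (i : Fin k) :
    (fun a => T.β.repr (((x : GL (Fin n) F) : Mat) *ᵥ v) (i, a)) =
      (T.ρ x : Matrix (Fin d) (Fin d) F) *ᵥ fun a => T.β.repr v (i, a) := by
  classical
  funext a
  conv_lhs => rw [← T.β.sum_repr v, Matrix.mulVec_sum]
  simp only [Matrix.mulVec_smul, T.act, Fintype.sum_prod_type, map_sum, map_smul, Finsupp.coe_finset_sum,
    Finset.sum_apply, Finsupp.smul_apply, Basis.repr_self, Finsupp.single_apply, smul_eq_mul, Prod.mk.injEq,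
    Matrix.mulVec, dotProduct]
  rw [Finset.sum_eq_single i (fun j _ hj => ?_) (by simp)]
  · refine Finset.sum_congr rfl fun l _ => ?_
    rw [Finset.sum_eq_single a (fun a' _ ha => by simp [ha]) (by simp)]
    simp [mul_comm]
  · refine Finset.sum_eq_zero fun l _ => ?_
    simp [hj]

theorem TensorBasis.ρ_injective (T : TensorBasis N k d) : Function.Injective T.ρ := by
  intro x y h
  refine Subtype.ext (Units.ext (Matrix.toLin'.injective (T.β.ext fun p => ?_)))
  obtain ⟨j, l⟩ := p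
  rw [Matrix.toLin'_apply, Matrix.toLin'_apply, T.act, T.act, h]

theorem TensorBasis.scalarCommutant [Finite F] (T : TensorBasis N k d) (hd : d.Prime)
    (hc : ¬ ∀ x ∈ N, ∀ y ∈ N, x * y = y * x) : ScalarCommutant T.ρ.range := by
  refine (scalarCommutant_or_comm hd T.irr).resolve_right fun h => hc fun x hx y hy => ?_
  have h1 := h _ ⟨⟨x, hx⟩, rfl⟩ _ ⟨⟨y, hy⟩, rfl⟩
  rw [← map_mul, ← map_mul] at h1
  exact congrArg Subtype.val (T.ρ_injective h1)

/-- Elements conjugating the subgroup into itself are Kronecker products in the basis. -/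
theorem TensorBasis.normalizer_form (T : TensorBasis N k d) (hsc : ScalarCommutant T.ρ.range) {g : GL (Fin n) F}
    (hg : ∀ x ∈ N, g * x * g⁻¹ ∈ N) :
    ∃ (B : Matrix (Fin k) (Fin k) F) (A : Matrix (Fin d) (Fin d) F), (∀ j l, (g : Mat) *ᵥ T.β (j, l) =
      ∑ i, ∑ a, (B i j * A a l) • T.β (i, a)) ∧ ((∀ x ∈ N, g * x = x * g) → A = 1) := by
  classical
  let G : Fin k → Fin k → Matrix (Fin d) (Fin d) F := fun i j => Matrix.of fun a l =>
    T.β.repr ((g : Mat) *ᵥ T.β (j, l)) (i, a)
  have hG : ∀ (x : N) i j, G i j * (T.ρ x : Matrix (Fin d) (Fin d) F) =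
      (T.ρ ⟨g * x * g⁻¹, hg x x.2⟩ : Matrix (Fin d) (Fin d) F) * G i j := by
    intro x i j
    ext a l
    have h1 : ((g * x * g⁻¹ : GL (Fin n) F) : Mat) *ᵥ ((g : Mat) *ᵥ T.β (j, l)) =
        (g : Mat) *ᵥ (((x : GL (Fin n) F) : Mat) *ᵥ T.β (j, l)) := by
      rw [Units.val_mul, Units.val_mul, ← Matrix.mulVec_mulVec, ← Matrix.mulVec_mulVec, TransvMax.inv_mulVec_mulVec]
    have h2 := congrFun (T.repr_act ⟨g * x * g⁻¹, hg x x.2⟩ ((g : Mat) *ᵥ T.β (j, l)) i) a
    rw [show ((⟨g * x * g⁻¹, hg x x.2⟩ : N) : GL (Fin n) F) = g * x * g⁻¹ from rfl, h1, T.act] at h2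
    simp only [Matrix.mulVec_sum, Matrix.mulVec_smul, map_sum, map_smul, Finsupp.coe_finset_sum, Finset.sum_apply,
      Finsupp.smul_apply, smul_eq_mul] at h2
    rw [Matrix.mul_apply, Matrix.mul_apply]
    simp only [G, Matrix.of_apply]
    rw [show (∑ c, T.β.repr ((g : Mat) *ᵥ T.β (j, c)) (i, a) * (T.ρ x : Matrix (Fin d) (Fin d) F) c l) =
      ∑ c, (T.ρ x : Matrix (Fin d) (Fin d) F) c l * T.β.repr ((g : Mat) *ᵥ T.β (j, c)) (i, a) from
      Finset.sum_congr rfl fun c _ => mul_comm _ _, h2]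
    rfl
  have hexp : ∀ j l, (g : Mat) *ᵥ T.β (j, l) = ∑ i, ∑ a, G i j a l • T.β (i, a) := by
    intro j l
    conv_lhs => rw [← T.β.sum_repr ((g : Mat) *ᵥ T.β (j, l))]
    rw [Fintype.sum_prod_type]
    rfl
  by_cases hcen : ∀ x ∈ N, g * x = x * g
  · have hs : ∀ i j, ∃ c : F, G i j = c • (1 : Matrix (Fin d) (Fin d) F) := fun i j => hsc _ (by
      rintro _ ⟨x, rfl⟩
      have h1 := hG x i j
      have h2 : (⟨g * x * g⁻¹, hg x x.2⟩ : N) = x := Subtype.ext (by
        show g * x * g⁻¹ = x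
        rw [hcen x x.2, mul_inv_cancel_right])
      rwa [h2] at h1)
    choose c hc using hs
    refine ⟨Matrix.of c, 1, fun j l => ?_, fun _ => rfl⟩
    rw [hexp]
    refine Finset.sum_congr rfl fun i _ => Finset.sum_congr rfl fun a _ => ?_
    rw [hc i j]
    simp [Matrix.of_apply]
  obtain ⟨i₀, j₀, h0⟩ : ∃ i j, G i j ≠ 0 := by
    by_contra hc
    push Not at hc
    refine hcen fun x hx => ?_
    have hg0 : (g : Mat) = 0 := Matrix.toLin'.injective (T.β.ext fun p => by
      obtain ⟨j, l⟩ := p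
      rw [Matrix.toLin'_apply, hexp, map_zero, LinearMap.zero_apply]
      simp [hc])
    exact Units.ext (by simp [Units.val_mul, hg0])
  set A := G i₀ j₀
  have hA : IsUnit A.det := by
    refine isUnit_iff_ne_zero.2 fun hdet => ?_
    obtain ⟨v, hv, hv'⟩ := Matrix.exists_mulVec_eq_zero_iff.2 hdet
    rcases T.irr (LinearMap.ker (Matrix.toLin' A)) (by
      rintro _ ⟨x, rfl⟩ w hw
      rw [LinearMap.mem_ker, Matrix.toLin'_apply] at hw ⊢
      rw [Matrix.mulVec_mulVec, hG x i₀ j₀, ← Matrix.mulVec_mulVec, hw, Matrix.mulVec_zero]) with h | h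
    · have : v ∈ LinearMap.ker (Matrix.toLin' A) := by simpa using hv'
      rw [h, Submodule.mem_bot] at this
      exact hv this
    · exact h0 (Matrix.toLin'.injective (by rw [LinearMap.ker_eq_top.1 h, map_zero]))
  have hs : ∀ i j, ∃ c : F, G i j = c • A := by
    intro i j
    obtain ⟨c, hc⟩ := hsc (A⁻¹ * G i j) (by
      rintro _ ⟨x, rfl⟩
      rw [mul_assoc, hG x i j, ← mul_assoc, ← mul_assoc]
      congr 1
      have h1 := congrArg (fun M => A⁻¹ * M * A⁻¹) (hG x i₀ j₀)
      simp only [← mul_assoc] at h1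
      rw [Matrix.nonsing_inv_mul _ hA, one_mul, Matrix.mul_nonsing_inv_cancel_right _ _ hA] at h1
      exact h1.symm)
    exact ⟨c, by rw [← Matrix.mul_nonsing_inv_cancel_left _ (G i j) hA, hc, mul_smul_comm, mul_one]⟩
  choose c hc using hs
  refine ⟨Matrix.of c, A, fun j l => ?_, fun h => absurd h hcen⟩
  rw [hexp]
  refine Finset.sum_congr rfl fun i _ => Finset.sum_congr rfl fun a _ => ?_
  rw [hc i j]
  simp [Matrix.of_apply]

/-- Kronecker products in a basis stabilise a tensor decomposition. -/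
theorem exists_tensor_of_basis {a b : ℕ} (ha : 0 < a) (hb : 0 < b) (β : Basis (Fin a × Fin b) F V) :
    ∃ (e : Fin n ≃ Fin a × Fin b) (P : GL (Fin n) F), ∀ (g : GL (Fin n) F) (B : Matrix (Fin a) (Fin a) F)
      (A : Matrix (Fin b) (Fin b) F), (∀ j l, (g : Mat) *ᵥ β (j, l) = ∑ i, ∑ c, (B i j * A c l) • β (i, c)) →
      g ∈ Cfsg.Geo.tensorProductSubgroup a b e P := by
  classical
  have hn : Fintype.card (Fin n) = Fintype.card (Fin a × Fin b) := by
    rw [← finrank_eq_card_basis β, finrank_fintype_fun_eq_card]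
  let e : Fin n ≃ Fin a × Fin b := Fintype.equivOfCardEq hn
  let P : GL (Fin n) F := TransvMax.glOf (β.reindex e.symm).equivFun.symm
  refine ⟨e, P, fun g B A hg => ?_⟩
  have hmat : LinearMap.toMatrix β β (Matrix.toLin' (g : Mat)) = B ⊗ₖ A := by
    ext ⟨i, c⟩ ⟨j, l⟩
    rw [LinearMap.toMatrix_apply, Matrix.toLin'_apply, hg]
    simp [Fintype.sum_prod_type, Finsupp.single_apply, Prod.ext_iff, Matrix.kroneckerMap_apply, ite_and]
  have hdet : (B ⊗ₖ A).det ≠ 0 := by
    rw [← hmat, LinearMap.det_toMatrix, LinearMap.det_toLin']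
    exact ((Matrix.isUnit_iff_isUnit_det _).1 g.isUnit).ne_zero
  rw [Matrix.det_kronecker, mul_ne_zero_iff, Fintype.card_fin, Fintype.card_fin, pow_ne_zero_iff hb.ne',
    pow_ne_zero_iff ha.ne'] at hdet
  obtain ⟨y, hy, hyX⟩ := TensorEl.exists_mem e P (Matrix.GeneralLinearGroup.mkOfDetNeZero B hdet.1)
    (Matrix.GeneralLinearGroup.mkOfDetNeZero A hdet.2)
  have hco : ∀ X, TensorEl.coord e P X = ∑ i, ∑ c, X i c • β (i, c) := by
    intro X
    rw [TensorEl.coord_apply, TransvMax.glOf_mulVec, Basis.equivFun_symm_apply, ← Equiv.sum_comp e.symm,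
      Fintype.sum_prod_type]
    simp
  suffices g = y by rwa [this]
  refine Units.ext (Matrix.toLin'.injective (β.ext fun p => ?_))
  obtain ⟨j, l⟩ := p
  rw [Matrix.toLin'_apply, Matrix.toLin'_apply, hg]
  have h1 : β (j, l) = TensorEl.coord e P (Matrix.single j l 1) := by
    rw [hco]
    simp [Matrix.single_apply, ite_and]
  conv_rhs => rw [h1, hyX, hco, TensorEl.sandwich_apply]
  refine Finset.sum_congr rfl fun i _ => Finset.sum_congr rfl fun c _ => ?_
  simp [Matrix.mul_apply, Matrix.single_apply, ite_and]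

/-- A commutative subgroup of this kind generates a field. -/
theorem TensorBasis.field_of_comm [Finite F] (T : TensorBasis N k d) (hk : 0 < k) (hd : 0 < d)
    (hc : ∀ x ∈ N, ∀ y ∈ N, x * y = y * x) :
    Cfsg.Geo.IsFieldSubalgebra d (Algebra.adjoin F (Cfsg.Geo.matrixSet N)) := by
  classical
  set K := Algebra.adjoin F (Cfsg.Geo.matrixSet N)
  have hKN : ∀ a ∈ K, ∀ x ∈ N, a * (x : Mat) = (x : Mat) * a := by
    intro a ha x hx
    induction ha using Algebra.adjoin_induction with
    | mem a ha =>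
      obtain ⟨y, hy, rfl⟩ := ha
      rw [← Units.val_mul, hc y hy x hx, Units.val_mul]
    | algebraMap c => exact (Algebra.commutes c _)
    | add a b _ _ h h' => rw [add_mul, mul_add, h, h']
    | mul a b _ _ h h' => rw [mul_assoc, h', ← mul_assoc, h, mul_assoc]
  have hKK : ∀ a ∈ K, ∀ b ∈ K, a * b = b * a := by
    intro a ha b hb
    induction hb using Algebra.adjoin_induction with
    | mem b hb =>
      obtain ⟨y, hy, rfl⟩ := hb
      exact hKN a ha y hy
    | algebraMap c => exact (Algebra.commutes c _).symm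
    | add b b' _ _ h h' => rw [add_mul, mul_add, h, h']
    | mul b b' _ _ h h' => rw [← mul_assoc, h, mul_assoc, h', ← mul_assoc]
  -- each element acts on the second index only
  have hK1 : ∀ a ∈ K, ∃ M : Matrix (Fin d) (Fin d) F, ∀ v i,
      (fun c => T.β.repr (a *ᵥ v) (i, c)) = M *ᵥ fun c => T.β.repr v (i, c) := by
    intro a ha
    induction ha using Algebra.adjoin_induction with
    | mem a ha =>
      obtain ⟨y, hy, rfl⟩ := ha
      exact ⟨_, fun v i => T.repr_act ⟨y, hy⟩ v i⟩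
    | algebraMap c =>
      refine ⟨c • 1, fun v i => ?_⟩
      funext l
      simp [Algebra.algebraMap_eq_smul_one, Matrix.smul_mulVec]
    | add a b _ _ h h' =>
      obtain ⟨M, hM⟩ := h
      obtain ⟨M', hM'⟩ := h'
      refine ⟨M + M', fun v i => ?_⟩
      rw [Matrix.add_mulVec, Matrix.add_mulVec, ← hM, ← hM']
      funext l
      simp
    | mul a b _ _ h h' =>
      obtain ⟨M, hM⟩ := h
      obtain ⟨M', hM'⟩ := h'
      refine ⟨M * M', fun v i => ?_⟩
      rw [← Matrix.mulVec_mulVec, ← Matrix.mulVec_mulVec, hM, hM']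
  let i0 : Fin k := ⟨0, hk⟩
  let l0 : Fin d := ⟨0, hd⟩
  let ψ : K.toSubmodule →ₗ[F] (Fin d → F) :=
    { toFun := fun a c => T.β.repr ((a : Mat) *ᵥ T.β (i0, l0)) (i0, c)
      map_add' := fun a b => by funext c; simp [Matrix.add_mulVec]
      map_smul' := fun r a => by funext c; simp [Matrix.smul_mulVec] }
  have hzero : ∀ a ∈ K, ∀ v i, (fun c => T.β.repr v (i, c)) ≠ 0 →
      (fun c => T.β.repr (a *ᵥ v) (i, c)) = 0 → a = 0 := by
    intro a ha v i hv hav
    obtain ⟨M, hM⟩ := hK1 a ha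
    rw [hM] at hav
    have hM0 : M = 0 := by
      rcases T.irr (LinearMap.ker (Matrix.toLin' M)) (by
        rintro _ ⟨x, rfl⟩ w hw
        rw [LinearMap.mem_ker, Matrix.toLin'_apply] at hw ⊢
        obtain ⟨u, rfl⟩ : ∃ u, (fun c => T.β.repr u (i0, c)) = w := by
          refine ⟨∑ c, w c • T.β (i0, c), ?_⟩
          funext c
          simp [Finsupp.single_apply]
        rw [← hM] at hw
        rw [← T.repr_act x u i0, ← hM, Matrix.mulVec_mulVec, hKN a ha x x.2, ← Matrix.mulVec_mulVec, T.repr_act, hw,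
          Matrix.mulVec_zero]) with h | h
      · exact absurd ((Submodule.eq_bot_iff _).1 h _ (LinearMap.mem_ker.2 hav)) hv
      · exact Matrix.toLin'.injective (by rw [LinearMap.ker_eq_top.1 h, map_zero])
    refine Matrix.ext_iff_mulVec.2 fun u => ?_
    rw [Matrix.zero_mulVec]
    refine T.β.ext_elem fun p => ?_
    have h1 := congrFun (hM u p.1) p.2
    rw [hM0, Matrix.zero_mulVec] at h1
    simpa using h1
  have he : (fun c => T.β.repr (T.β (i0, l0)) (i0, c)) ≠ 0 := fun e => by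
    simpa using congrFun e l0
  have hψi : Function.Injective ψ := by
    rw [← LinearMap.ker_eq_bot, eq_bot_iff]
    intro a ha
    exact (Submodule.mem_bot F).2 (Subtype.ext (hzero a a.2 _ i0 he (LinearMap.mem_ker.1 ha)))
  have hψs : LinearMap.range ψ = ⊤ := by
    refine (T.irr _ ?_).resolve_left fun e => he ?_
    · rintro _ ⟨x, rfl⟩ _ ⟨a, rfl⟩
      refine ⟨⟨((x : GL (Fin n) F) : Mat) * a, K.mul_mem (Algebra.subset_adjoin ⟨x, x.2, rfl⟩) a.2⟩, ?_⟩
      show (fun c => T.β.repr ((((x : GL (Fin n) F) : Mat) * (a : Mat)) *ᵥ _) (i0, c)) = _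
      rw [← Matrix.mulVec_mulVec, T.repr_act]
      rfl
    · have h1 : ψ ⟨1, K.one_mem⟩ ∈ LinearMap.range ψ := ⟨_, rfl⟩
      rw [e, Submodule.mem_bot] at h1
      simpa [ψ] using h1
  refine ⟨hKK, fun a ha ha0 => ?_, ?_⟩
  · let L : K → K := fun b => ⟨a * b, K.mul_mem ha b.2⟩
    have hLi : Function.Injective L := by
      intro b b' e
      refine Subtype.ext (sub_eq_zero.1 (hzero _ (K.sub_mem b.2 b'.2) _ i0 he ?_))
      obtain ⟨M, hM⟩ := hK1 a ha
      have hMi : ∀ w, M *ᵥ w = 0 → w = 0 := by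
        intro w hw
        by_contra hw0
        refine ha0 (hzero a ha (∑ c, w c • T.β (i0, c)) i0 (fun e => hw0 ?_) ?_)
        · funext c
          simpa [Finsupp.single_apply] using congrFun e c
        · rw [hM, ← hw]
          congr 1
          funext c
          simp [Finsupp.single_apply]
      refine hMi _ ?_
      have e' : a * (b : Mat) = a * (b' : Mat) := congrArg Subtype.val e
      rw [← hM, Matrix.mulVec_mulVec, mul_sub, e']
      funext c
      simp
    obtain ⟨b, hb⟩ := (Finite.injective_iff_surjective.1 hLi) ⟨1, K.one_mem⟩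
    exact ⟨b, b.2, congrArg Subtype.val hb⟩
  · show finrank F K.toSubmodule = d
    rw [← LinearMap.finrank_range_of_inj hψi, hψs, finrank_top, finrank_fintype_fun_eq_card, Fintype.card_fin]

end Cfsg.Agent.TwoPrime
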